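import Cfsg.Agent.OddPair.Perm

/-!
Two vectors with trivial common stabiliser for an irreducible module with a system of imprimitivity.
-/

set_option autoImplicit false
set_option linter.style.haveILetI false

namespace CfsgLib.OddPair

/-- Only the trivial invariant subgroups. -/
def IsIrr (A V : Type*) [Group A] [AddCommGroup V] [DistribMulAction A V] : Prop :=
  ∀ U : AddSubgroup V, (∀ a : A, ∀ v ∈ U, a • v ∈ U) → U = ⊥ ∨ U = ⊤

theorem IsIrr.isCR {A V : Type*} [Group A] [AddCommGroup V] [DistribMulAction A V] (h : IsIrr A V) : IsCR A V := by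
  intro U hU
  rcases h U hU with rfl | rfl
  · exact ⟨⊤, fun _ _ _ => AddSubgroup.mem_top _, bot_inf_eq _, bot_sup_eq _⟩
  · refine ⟨⊥, fun a w hw => ?_, inf_bot_eq _, top_sup_eq _⟩
    rw [AddSubgroup.mem_bot] at hw ⊢
    rw [hw, smul_zero]

variable {A V : Type} [Group A] [Finite A] [AddCommGroup V] [Finite V] [DistribMulAction A V]
  {ι : Type} [Fintype ι] [MulAction A ι]

theorem pair_of_system {n : ℕ} (IH : PairsBelow n) (hV : Nat.card V ≤ n + 1) (hA : Odd (Nat.card A))
    (hs : Group.IsSolvable A) (hirr : IsIrr A V) (hι : 2 ≤ Fintype.card ι) (W : ι → AddSubgroup V)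
    (hW0 : ∀ i, W i ≠ ⊥) (hmove : ∀ (a : A) (i : ι), ∀ v ∈ W i, a • v ∈ W (a • i))
    (hind : ∀ f : ι → V, (∀ i, f i ∈ W i) → ∑ i, f i = 0 → ∀ i, f i = 0) :
    ∃ v w : V, ∀ a : A, a • v = v → a • w = w → ∀ x : V, a • x = x := by
  classical
  have hsingle : ∀ (i : ι) (x : V), (∀ j, (Pi.single i x : ι → V) j ∈ W j) ↔ x ∈ W i := by
    intro i x
    refine ⟨fun h => by simpa using h i, fun h j => ?_⟩
    rcases eq_or_ne j i with rfl | hj
    · simpa using h
    · simp [hj]
  -- the sums of translates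
  have hspan : ∀ (i₀ : ι) (t : ι → A) (U : AddSubgroup V), U ≤ W i₀ → U ≠ ⊥ →
      (∀ a : A, a • i₀ = i₀ → ∀ u ∈ U, a • u ∈ U) → t i₀ = 1 → (∀ i, t i • i₀ = i) →
      ∀ x : V, ∃ f : ι → V, (∀ i, (t i)⁻¹ • f i ∈ U) ∧ ∑ i, f i = x := by
    intro i₀ t U hUW hU0 hUinv ht0 ht
    let U' : AddSubgroup V :=
      { carrier := {x | ∃ f : ι → V, (∀ i, (t i)⁻¹ • f i ∈ U) ∧ ∑ i, f i = x}
        zero_mem' := ⟨0, fun i => by simp, by simp⟩
        add_mem' := fun {x y} ⟨f, hf, hx⟩ ⟨g, hg, hy⟩ => ⟨f + g, fun i => by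
          rw [Pi.add_apply, smul_add]; exact add_mem (hf i) (hg i), by simp [Finset.sum_add_distrib, hx, hy]⟩
        neg_mem' := fun {x} ⟨f, hf, hx⟩ => ⟨-f, fun i => by
          rw [Pi.neg_apply, smul_neg]; exact neg_mem (hf i), by simp [hx]⟩ }
    intro x
    have htop : U' = ⊤ := by
      refine (hirr U' ?_).resolve_left ?_
      · rintro a y ⟨f, hf, rfl⟩
        refine ⟨fun i => a • f (a⁻¹ • i), fun i => ?_, ?_⟩
        · set j := a⁻¹ • i with hj
          have hfix : ((t i)⁻¹ * a * t j) • i₀ = i₀ := by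
            rw [mul_smul, mul_smul, ht, hj, smul_inv_smul, inv_smul_eq_iff, ht]
          have h := hUinv _ hfix _ (hf j)
          rwa [mul_smul, mul_smul, smul_inv_smul] at h
        · rw [Finset.smul_sum]
          exact Fintype.sum_equiv (MulAction.toPerm a⁻¹) _ _ fun i => rfl
      · intro h
        obtain ⟨⟨u, hu⟩, hu0'⟩ := AddSubgroup.ne_bot_iff_exists_ne_zero.mp hU0
        have hu0 : u ≠ 0 := fun e => hu0' (Subtype.ext e)
        have hm : u ∈ U' := ⟨Pi.single i₀ u, fun i => by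
          rcases eq_or_ne i i₀ with rfl | hi
          · simpa [ht0] using hu
          · simp [hi], by simp⟩
        rw [h] at hm
        exact hu0 (AddSubgroup.mem_bot.mp hm)
    have hx : x ∈ U' := htop ▸ AddSubgroup.mem_top x
    exact hx
  haveI : Nonempty ι := Fintype.card_pos_iff.mp (by omega)
  obtain ⟨i₀⟩ := ‹Nonempty ι›
  -- transitivity
  have htrans : ∀ i : ι, ∃ a : A, a • i₀ = i := by
    intro i
    by_contra hne
    let U' : AddSubgroup V :=
      { carrier := {x | ∃ f : ι → V, (∀ j, f j ∈ W j) ∧ (∀ j, (¬ ∃ a : A, a • i₀ = j) → f j = 0) ∧ ∑ j, f j = x}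
        zero_mem' := ⟨0, fun _ => zero_mem _, fun _ _ => rfl, by simp⟩
        add_mem' := fun {x y} ⟨f, hf, hf', hx⟩ ⟨g, hg, hg', hy⟩ => ⟨f + g, fun j => add_mem (hf j) (hg j),
          fun j hj => by simp [hf' j hj, hg' j hj], by simp [Finset.sum_add_distrib, hx, hy]⟩
        neg_mem' := fun {x} ⟨f, hf, hf', hx⟩ => ⟨-f, fun j => neg_mem (hf j),
          fun j hj => by simp [hf' j hj], by simp [hx]⟩ }
    have htop : U' = ⊤ := by
      refine (hirr U' ?_).resolve_left ?_
      · rintro a x ⟨f, hf, hf', rfl⟩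
        refine ⟨fun j => a • f (a⁻¹ • j), fun j => ?_, fun j hj => ?_, ?_⟩
        · have h := hmove a _ _ (hf (a⁻¹ • j))
          rwa [smul_inv_smul] at h
        · show a • f (a⁻¹ • j) = 0
          rw [hf' _ (fun ⟨b, hb⟩ => hj ⟨a * b, by rw [mul_smul, hb, smul_inv_smul]⟩), smul_zero]
        · rw [Finset.smul_sum]
          exact Fintype.sum_equiv (MulAction.toPerm a⁻¹) _ _ fun j => rfl
      · intro h
        obtain ⟨⟨u, hu⟩, hu0⟩ := AddSubgroup.ne_bot_iff_exists_ne_zero.mp (hW0 i₀)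
        have hm : u ∈ U' := ⟨Pi.single i₀ u, (hsingle i₀ u).mpr hu, fun j hj => by
          rcases eq_or_ne j i₀ with rfl | hj'
          · exact absurd ⟨1, one_smul _ _⟩ hj
          · simp [hj'], by simp⟩
        rw [h] at hm
        exact hu0 (Subtype.ext (AddSubgroup.mem_bot.mp hm))
    obtain ⟨⟨u, hu⟩, hu0⟩ := AddSubgroup.ne_bot_iff_exists_ne_zero.mp (hW0 i)
    obtain ⟨f, hf, hf', hfu⟩ : u ∈ U' := htop ▸ AddSubgroup.mem_top u
    have h := hind (f - Pi.single i u) (fun j => sub_mem (hf j) ((hsingle i u).mpr hu j))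
      (by simp [Finset.sum_sub_distrib, hfu]) i
    rw [Pi.sub_apply, hf' i hne] at h
    exact hu0 (Subtype.ext (by simpa using h))
  choose t₀ ht₀ using htrans
  let t : ι → A := fun i => t₀ i * (t₀ i₀)⁻¹
  have ht : ∀ i, t i • i₀ = i := fun i => by
    show (t₀ i * (t₀ i₀)⁻¹) • i₀ = i
    rw [mul_smul]
    conv_lhs => arg 2; arg 2; rw [← ht₀ i₀]
    rw [inv_smul_smul, ht₀]
  have ht1 : t i₀ = 1 := mul_inv_cancel _
  set A₀ := MulAction.stabilizer A i₀ with hA₀
  have hA₀W : ∀ (a : A₀) (x : V), x ∈ W i₀ → (a : A) • x ∈ W i₀ := fun a x hx => by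
    have h := hmove a i₀ x hx
    rwa [show (a : A) • i₀ = i₀ from a.2] at h
  letI : DistribMulAction A₀ (W i₀) :=
    { smul := fun a x => ⟨(a : A) • (x : V), hA₀W a x x.2⟩
      one_smul := fun x => Subtype.ext (one_smul A (x : V))
      mul_smul := fun a b x => Subtype.ext (mul_smul (a : A) b (x : V))
      smul_zero := fun a => Subtype.ext (smul_zero (a : A))
      smul_add := fun a x y => Subtype.ext (smul_add (a : A) (x : V) y) }
  have hirr₀ : IsIrr A₀ (W i₀) := by
    intro U hU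
    by_cases hU0 : U = ⊥
    · exact Or.inl hU0
    refine Or.inr (eq_top_iff.mpr fun x _ => ?_)
    have hspan' := hspan i₀ t (U.map (W i₀).subtype) (AddSubgroup.map_subtype_le U)
      (fun h => hU0 (AddSubgroup.map_injective (W i₀).subtype_injective (h.trans (AddSubgroup.map_bot _).symm)))
      (by
        rintro a ha _ ⟨u, hu, rfl⟩
        exact ⟨(⟨a, ha⟩ : A₀) • u, hU _ u hu, rfl⟩) ht1 ht
    obtain ⟨f, hf, hfx⟩ := hspan' x
    have hfW : ∀ i, f i ∈ W i := fun i => by
      obtain ⟨u, -, hu⟩ := hf i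
      have h := hmove (t i) i₀ _ (hu ▸ u.2 : (t i)⁻¹ • f i ∈ W i₀)
      rwa [smul_inv_smul, ht] at h
    have h := hind (f - Pi.single i₀ (x : V)) (fun j => sub_mem (hfW j) ((hsingle i₀ _).mpr x.2 j))
      (by simp [Finset.sum_sub_distrib, hfx]) i₀
    rw [Pi.sub_apply, Pi.single_eq_same, sub_eq_zero] at h
    obtain ⟨u, hu, hu'⟩ := hf i₀
    rw [ht1, inv_one, one_smul, h] at hu'
    rwa [← Subtype.ext (a1 := u) (a2 := x) hu']
  -- sizes
  choose wv hwv using fun i => AddSubgroup.ne_bot_iff_exists_ne_zero.mp (hW0 i)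
  have hwinj : Function.Injective fun i => (wv i : V) := by
    intro i j hij
    by_contra hne
    have h := hind (Pi.single i (wv i : V) - Pi.single j (wv j : V))
      (fun l => sub_mem ((hsingle i _).mpr (wv i).2 l) ((hsingle j _).mpr (wv j).2 l))
      (by simp [Finset.sum_sub_distrib, show (wv i : V) = wv j from hij]) i
    simp [hne] at h
    exact hwv i h
  have hιlt : Nat.card ι < Nat.card V := by
    refine lt_of_le_of_lt (Nat.card_le_card_of_injective (fun i => (⟨(wv i : V), fun e => hwv i (Subtype.ext e)⟩ :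
      {x : V // x ≠ 0})) fun i j h => hwinj (congrArg Subtype.val h)) ?_
    exact Finite.card_subtype_lt (x := (0 : V)) (by simp)
  have hWlt : Nat.card (W i₀) < Nat.card V := by
    obtain ⟨j, hj⟩ := Fintype.exists_ne_of_one_lt_card (by omega) i₀
    refine Finite.card_subtype_lt (p := (· ∈ W i₀)) (x := (wv j : V)) fun hmem => ?_
    have h := hind (Pi.single i₀ (wv j : V) - Pi.single j (wv j : V))
      (fun l => sub_mem ((hsingle i₀ _).mpr hmem l) ((hsingle j _).mpr (wv j).2 l))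
      (by simp [Finset.sum_sub_distrib]) j
    simp [hj] at h
    exact hwv j h
  have hA₀odd : Odd (Nat.card A₀) := hA.of_dvd_nat (Subgroup.card_subgroup_dvd_card A₀)
  obtain ⟨u, w, huw⟩ := IH (W i₀) (by omega) A₀ hA₀odd (haveI := hs; (inferInstance : Group.IsSolvable A₀))
    hirr₀.isCR
  -- two pairs in different orbits
  obtain ⟨P1, P2, hP1, hP2, h12, h21⟩ : ∃ P1 P2 : W i₀ × W i₀,
      (∀ a : A₀, a • P1 = P1 → ∀ x : W i₀, a • x = x) ∧ (∀ a : A₀, a • P2 = P2 → ∀ x : W i₀, a • x = x) ∧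
      (∀ a : A₀, a • P1 ≠ P2) ∧ (∀ a : A₀, a • P2 ≠ P1) := by
    by_cases hne : u = w
    · obtain ⟨x, hx0, hx⟩ : ∃ x : W i₀, x ≠ 0 ∧ ∀ a : A₀, a • x = x → ∀ y : W i₀, a • y = y := by
        rcases eq_or_ne u 0 with hu | hu
        · obtain ⟨x, hx⟩ : ∃ x : W i₀, x ≠ 0 := ⟨wv i₀, hwv i₀⟩
          exact ⟨x, hx, fun a _ => huw a (by rw [hu, smul_zero]) (by rw [← hne, hu, smul_zero])⟩
        · exact ⟨u, hu, fun a ha => huw a ha (by rw [← hne]; exact ha)⟩
      refine ⟨(x, 0), (x, x), fun a ha => hx a (congrArg Prod.fst ha), fun a ha => hx a (congrArg Prod.fst ha),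
        fun a ha => ?_, fun a ha => ?_⟩
      · have h := congrArg Prod.snd ha
        rw [Prod.smul_snd, smul_zero] at h
        exact hx0 h.symm
      · have h := congrArg Prod.snd ha
        rw [Prod.smul_snd, smul_eq_zero_iff_eq] at h
        exact hx0 h
    · refine ⟨(u, w), (w, u), fun a ha => huw a (congrArg Prod.fst ha) (congrArg Prod.snd ha),
        fun a ha => huw a (congrArg Prod.snd ha) (congrArg Prod.fst ha), fun a ha => hne ?_, fun a ha => hne ?_⟩
      · have h1 : a • u = w := congrArg Prod.fst ha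
        have h2 : a • w = u := congrArg Prod.snd ha
        exact (smul_eq_of_swap hA₀odd (x := u) (by rw [h1, h2])).symm.trans h1
      · have h1 : a • w = u := congrArg Prod.fst ha
        have h2 : a • u = w := congrArg Prod.snd ha
        exact (smul_eq_of_swap hA₀odd (x := u) (by rw [h2, h1])).symm.trans h2
  obtain ⟨S, hS⟩ := hasRegularSubset IH (Nat.card ι) A ι le_rfl (by omega) hA hs
  let lab : ι → W i₀ × W i₀ := fun i => if i ∈ S then P1 else P2
  refine ⟨∑ i, t i • ((lab i).1 : V), ∑ i, t i • ((lab i).2 : V), fun a hv hw => ?_⟩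
  have hcomp : ∀ z : ι → W i₀, a • ∑ i, t i • (z i : V) = ∑ i, t i • (z i : V) →
      ∀ i, a • t i • (z i : V) = t (a • i) • (z (a • i) : V) := by
    intro z hz i
    have hmem : ∀ j, t j • (z j : V) ∈ W j := fun j => by
      have := hmove (t j) i₀ _ (z j).2
      rwa [ht] at this
    have h := hind (fun j => a • t (a⁻¹ • j) • (z (a⁻¹ • j) : V) - t j • (z j : V)) (fun j => sub_mem (by
        have := hmove a _ _ (hmem (a⁻¹ • j))
        rwa [smul_inv_smul] at this) (hmem j)) (by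
        rw [Finset.sum_sub_distrib, sub_eq_zero]
        refine Eq.trans ?_ hz
        rw [Finset.smul_sum]
        exact Fintype.sum_equiv (MulAction.toPerm a⁻¹) _ _ fun j => rfl) (a • i)
    rw [inv_smul_smul, sub_eq_zero] at h
    exact h
  have hmap : ∀ i, ∃ c : A₀, c • lab i = lab (a • i) ∧
      ∀ x : W i₀, a • t i • (x : V) = t (a • i) • ((c • x : W i₀) : V) := by
    intro i
    refine ⟨⟨(t (a • i))⁻¹ * a * t i, ?_⟩, ?_, fun x => ?_⟩
    · rw [hA₀, MulAction.mem_stabilizer_iff, mul_smul, mul_smul, ht, inv_smul_eq_iff, ht]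
    · refine Prod.ext (Subtype.ext ?_) (Subtype.ext ?_)
      · show ((t (a • i))⁻¹ * a * t i) • ((lab i).1 : V) = ((lab (a • i)).1 : V)
        rw [mul_smul, mul_smul, inv_smul_eq_iff]
        exact hcomp (fun j => (lab j).1) hv i
      · show ((t (a • i))⁻¹ * a * t i) • ((lab i).2 : V) = ((lab (a • i)).2 : V)
        rw [mul_smul, mul_smul, inv_smul_eq_iff]
        exact hcomp (fun j => (lab j).2) hw i
    · show _ = t (a • i) • ((t (a • i))⁻¹ * a * t i) • (x : V)
      rw [← mul_smul, ← mul_smul]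
      congr 1
      group
  have hST : ∀ i, i ∈ S ↔ a • i ∈ S := by
    intro i
    obtain ⟨c, hc, -⟩ := hmap i
    simp only [lab] at hc
    split_ifs at hc with h1 h2 h2
    · exact iff_of_true h1 h2
    · exact absurd hc (h12 c)
    · exact absurd hc (h21 c)
    · exact iff_of_false h1 h2
  have hfix := hS a hST
  intro x
  obtain ⟨f, hf, rfl⟩ := hspan i₀ t (W i₀) le_rfl (hW0 i₀) (fun c hc y hy => hA₀W ⟨c, hc⟩ y hy) ht1 ht x
  rw [Finset.smul_sum]
  refine Finset.sum_congr rfl fun i _ => ?_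
  obtain ⟨c, hc, hc'⟩ := hmap i
  rw [hfix] at hc
  have hcid : ∀ y : W i₀, c • y = y := by
    simp only [lab] at hc
    split_ifs at hc
    · exact hP1 c hc
    · exact hP2 c hc
  have h := hc' ⟨_, hf i⟩
  rwa [hfix, hcid, show t i • (((⟨_, hf i⟩ : W i₀)) : V) = f i from smul_inv_smul _ _] at h

end CfsgLib.OddPair
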