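import Cfsg.Agent.OddPair.Imprimitive

/-!
The ring of endomorphisms generated by a commutative normal subgroup of an irreducible group is a field,
unless it gives a system of imprimitivity.
-/

set_option autoImplicit false
set_option linter.style.haveILetI false

namespace CfsgLib.OddPair

variable (A V : Type) [Group A] [AddCommGroup V] [DistribMulAction A V]

/-- The endomorphism given by a group element. -/
def endHom : A →* AddMonoid.End V := DistribMulAction.toAddMonoidEnd A V

variable {A V}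

theorem endHom_apply (a : A) (x : V) : endHom A V a x = a • x := rfl

/-- The ring generated by the images of a subgroup. -/
def ringOf (V : Type) [AddCommGroup V] [DistribMulAction A V] (M : Subgroup A) : Subring (AddMonoid.End V) :=
  Subring.closure (endHom A V '' (M : Set A))

theorem endHom_mem_ringOf {M : Subgroup A} {m : A} (hm : m ∈ M) : endHom A V m ∈ ringOf V M :=
  Subring.subset_closure ⟨m, hm, rfl⟩

theorem ringOf_mul_comm {M : Subgroup A} (hM : ∀ x ∈ M, ∀ y ∈ M, x * y = y * x) {r s : AddMonoid.End V}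
    (hr : r ∈ ringOf V M) (hs : s ∈ ringOf V M) : r * s = s * r := by
  have h1 : ∀ m ∈ M, ∀ u ∈ ringOf V M, endHom A V m * u = u * endHom A V m := by
    intro m hm u hu
    induction hu using Subring.closure_induction with
    | mem x hx => obtain ⟨y, hy, rfl⟩ := hx; rw [← map_mul, ← map_mul, hM m hm y hy]
    | zero => rw [mul_zero, zero_mul]
    | one => rw [mul_one, one_mul]
    | add x y _ _ hx hy => rw [mul_add, add_mul, hx, hy]
    | neg x _ hx => rw [mul_neg, neg_mul, hx]
    | mul x y _ _ hx hy => rw [← mul_assoc, hx, mul_assoc, hy, mul_assoc]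
  induction hr using Subring.closure_induction with
  | mem x hx => obtain ⟨y, hy, rfl⟩ := hx; exact h1 y hy s hs
  | zero => rw [mul_zero, zero_mul]
  | one => rw [mul_one, one_mul]
  | add x y _ _ hx hy => rw [mul_add, add_mul, hx, hy]
  | neg x _ hx => rw [mul_neg, neg_mul, hx]
  | mul x y _ _ hx hy => rw [mul_assoc, hy, ← mul_assoc, hx, mul_assoc]

theorem endHom_mul_inv (a : A) : endHom A V a⁻¹ * endHom A V a = 1 := by
  rw [← map_mul, inv_mul_cancel, map_one]

/-- Conjugation of endomorphisms. -/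
def conjEnd (a : A) (r : AddMonoid.End V) : AddMonoid.End V := endHom A V a * r * endHom A V a⁻¹

theorem conjEnd_mul (a : A) (r s : AddMonoid.End V) : conjEnd a (r * s) = conjEnd a r * conjEnd a s := by
  simp only [conjEnd, mul_assoc]
  rw [← mul_assoc (endHom A V a⁻¹) (endHom A V a), endHom_mul_inv, one_mul]

theorem conjEnd_conjEnd (a b : A) (r : AddMonoid.End V) : conjEnd a (conjEnd b r) = conjEnd (a * b) r := by
  simp only [conjEnd, mul_inv_rev, map_mul, mul_assoc]

theorem conjEnd_one (r : AddMonoid.End V) : conjEnd (1 : A) r = r := by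
  simp [conjEnd]

theorem smul_apply_eq_conjEnd (a : A) (r : AddMonoid.End V) (x : V) : a • r x = conjEnd a r (a • x) := by
  show _ = a • r (a⁻¹ • a • x)
  rw [inv_smul_smul]

theorem conjEnd_mem_ringOf {M : Subgroup A} [hM : M.Normal] (a : A) {r : AddMonoid.End V} (hr : r ∈ ringOf V M) :
    conjEnd a r ∈ ringOf V M := by
  induction hr using Subring.closure_induction with
  | mem x hx =>
    obtain ⟨m, hm, rfl⟩ := hx
    rw [conjEnd, ← map_mul, ← map_mul]
    exact endHom_mem_ringOf (hM.conj_mem m hm a)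
  | zero => simp [conjEnd]
  | one => rw [conjEnd, mul_one, ← map_mul, mul_inv_cancel, map_one]; exact one_mem _
  | add x y _ _ hx hy =>
    rw [show conjEnd a (x + y) = conjEnd a x + conjEnd a y by simp [conjEnd, mul_add, add_mul]]
    exact add_mem hx hy
  | neg x _ hx =>
    rw [show conjEnd a (-x) = -conjEnd a x by simp [conjEnd]]
    exact neg_mem hx
  | mul x y _ _ hx hy => rw [conjEnd_mul]; exact mul_mem hx hy

variable [Finite A] [Finite V]

/-- An irreducible group leaves no non-zero nilpotents in these rings. -/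
theorem eq_zero_of_isNilpotent [Nontrivial V] (hirr : IsIrr A V) {M : Subgroup A} [M.Normal]
    (hM : ∀ x ∈ M, ∀ y ∈ M, x * y = y * x) {r : AddMonoid.End V} (hr : r ∈ ringOf V M) (hn : IsNilpotent r) :
    r = 0 := by
  classical
  let N : Set (AddMonoid.End V) := {s | s ∈ ringOf V M ∧ IsNilpotent s}
  have hNfin : N.Finite := by
    haveI : Finite (AddMonoid.End V) := Finite.of_injective (fun f => (f : V → V)) DFunLike.coe_injective
    exact Set.toFinite _
  let K0 : AddSubgroup V :=
    { carrier := {x | ∀ s ∈ N, s x = 0}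
      zero_mem' := fun s _ => map_zero s
      add_mem' := fun {x y} hx hy s hs => by rw [map_add, hx s hs, hy s hs, add_zero]
      neg_mem' := fun {x} hx s hs => by rw [map_neg, hx s hs, neg_zero] }
  have hK0 : K0 = ⊤ := by
    refine (hirr K0 ?_).resolve_left ?_
    · intro a x hx s hs
      have h1 : conjEnd a⁻¹ s ∈ N := ⟨conjEnd_mem_ringOf _ hs.1, by
        obtain ⟨k, hk⟩ := hs.2
        refine ⟨k, ?_⟩
        have : ∀ j, conjEnd a⁻¹ s ^ j = conjEnd a⁻¹ (s ^ j) := fun j => by
          induction j with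
          | zero => simp [conjEnd, ← map_mul]
          | succ j ih => rw [pow_succ, pow_succ, conjEnd_mul, ih]
        rw [this, hk]
        simp [conjEnd]⟩
      have h2 := hx _ h1
      have h3 := smul_apply_eq_conjEnd a (conjEnd a⁻¹ s) x
      rw [h2, smul_zero, conjEnd_conjEnd, mul_inv_cancel, conjEnd_one] at h3
      exact h3.symm
    · -- some non-zero vector is killed by all of them
      have key : ∀ T : Finset (AddMonoid.End V), (∀ s ∈ T, s ∈ N) → ∃ x : V, x ≠ 0 ∧ ∀ s ∈ T, s x = 0 := by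
        intro T
        induction T using Finset.induction with
        | empty =>
          obtain ⟨x, hx⟩ := exists_ne (0 : V)
          exact fun _ => ⟨x, hx, fun s hs => absurd hs (Finset.notMem_empty s)⟩
        | @insert s T _ ih =>
          intro hT
          obtain ⟨x, hx, hxT⟩ := ih fun u hu => hT u (Finset.mem_insert_of_mem hu)
          have hsN := hT s (Finset.mem_insert_self s T)
          obtain ⟨k, hk⟩ := hsN.2
          have hex : ∃ j, (s ^ j) x = 0 := ⟨k, by rw [hk]; rfl⟩
          have hj0 : Nat.find hex ≠ 0 := fun e => by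
            have := Nat.find_spec hex
            rw [e, pow_zero] at this
            exact hx this
          refine ⟨(s ^ (Nat.find hex - 1)) x, Nat.find_min hex (by omega), fun u hu => ?_⟩
          rcases Finset.mem_insert.mp hu with rfl | hu
          · show (u * u ^ (Nat.find hex - 1)) x = 0
            rw [← pow_succ', Nat.sub_add_cancel (by omega)]
            exact Nat.find_spec hex
          · show (u * s ^ (Nat.find hex - 1)) x = 0
            rw [ringOf_mul_comm hM (hT u (Finset.mem_insert_of_mem hu)).1 (pow_mem hsN.1 _)]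
            show (s ^ (Nat.find hex - 1)) (u x) = 0
            rw [hxT u hu, map_zero]
      obtain ⟨x, hx, hxT⟩ := key hNfin.toFinset fun s hs => hNfin.mem_toFinset.mp hs
      intro h
      have : x ∈ K0 := fun s hs => hxT s (hNfin.mem_toFinset.mpr hs)
      rw [h] at this
      exact hx (AddSubgroup.mem_bot.mp this)
  refine AddMonoidHom.ext fun x => ?_
  have hx : x ∈ K0 := hK0 ▸ AddSubgroup.mem_top x
  exact hx r ⟨hr, hn⟩

/-- An element of such a ring is zero, a unit, or yields an idempotent other than `0` and `1`. -/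
theorem zero_or_inv_or_idem [Nontrivial V] (hirr : IsIrr A V) {M : Subgroup A} [M.Normal]
    (hM : ∀ x ∈ M, ∀ y ∈ M, x * y = y * x) {r : AddMonoid.End V} (hr : r ∈ ringOf V M) :
    r = 0 ∨ (∃ s ∈ ringOf V M, r * s = 1) ∨ ∃ e ∈ ringOf V M, e * e = e ∧ e ≠ 0 ∧ e ≠ 1 := by
  haveI : Finite (AddMonoid.End V) := Finite.of_injective (fun f => (f : V → V)) DFunLike.coe_injective
  obtain ⟨i, j, hij, hpow⟩ : ∃ i j, i < j ∧ r ^ i = r ^ j := by
    obtain ⟨i, j, hne, h⟩ := Finite.exists_ne_map_eq_of_infinite (fun i : ℕ => r ^ i)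
    rcases lt_or_gt_of_ne hne with hlt | hlt
    · exact ⟨i, j, hlt, h⟩
    · exact ⟨j, i, hlt, h.symm⟩
  have hper : ∀ c m, i ≤ m → r ^ (m + c * (j - i)) = r ^ m := by
    intro c
    induction c with
    | zero => intro m _; rw [zero_mul, add_zero]
    | succ c ih =>
      intro m hm
      rw [show m + (c + 1) * (j - i) = (m - i) + j + c * (j - i) by
          have : (c + 1) * (j - i) = c * (j - i) + (j - i) := by ring
          omega,
        ih _ (by omega), pow_add, ← hpow, ← pow_add, Nat.sub_add_cancel hm]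
  set e := r ^ ((i + 1) * (j - i)) with he
  have hge : i + 1 ≤ (i + 1) * (j - i) := Nat.le_mul_of_pos_right _ (by omega)
  have hee : e * e = e := by
    rw [he, ← pow_add]
    exact hper (i + 1) _ (by omega)
  by_cases he0 : e = 0
  · exact Or.inl (eq_zero_of_isNilpotent hirr hM hr ⟨_, he0⟩)
  by_cases he1 : e = 1
  · refine Or.inr (Or.inl ⟨r ^ ((i + 1) * (j - i) - 1), pow_mem hr _, ?_⟩)
    rw [← pow_succ', Nat.sub_add_cancel (by omega)]
    exact he1
  exact Or.inr (Or.inr ⟨e, pow_mem hr _, hee, he0, he1⟩)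

/-- Two vectors, or all these rings are fields. -/
theorem pair_or_inv [Nontrivial V] {n : ℕ} (IH : PairsBelow n) (hV : Nat.card V ≤ n + 1) (hA : Odd (Nat.card A))
    (hs : Group.IsSolvable A) (hirr : IsIrr A V) :
    (∃ v w : V, ∀ a : A, a • v = v → a • w = w → ∀ x : V, a • x = x) ∨
      ∀ M : Subgroup A, M.Normal → (∀ x ∈ M, ∀ y ∈ M, x * y = y * x) →
        ∀ r ∈ ringOf V M, r ≠ 0 → ∃ s ∈ ringOf V M, r * s = 1 := by
  classical
  by_cases hbad : ∃ M : Subgroup A, M.Normal ∧ (∀ x ∈ M, ∀ y ∈ M, x * y = y * x) ∧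
      ∃ e ∈ ringOf V M, e * e = e ∧ e ≠ 0 ∧ e ≠ 1
  swap
  · refine Or.inr fun M hMn hM r hr hr0 => ?_
    haveI := hMn
    rcases zero_or_inv_or_idem hirr hM hr with h | h | ⟨e, he⟩
    · exact absurd h hr0
    · exact h
    · exact absurd ⟨M, hMn, hM, e, he.1, he.2⟩ hbad
  obtain ⟨M, hMn, hM, e₀, he₀R, he₀, he₀0, he₀1⟩ := hbad
  haveI := hMn
  haveI : Finite (AddMonoid.End V) := Finite.of_injective (fun f => (f : V → V)) DFunLike.coe_injective
  let Idem : AddMonoid.End V → Prop := fun f => f ∈ ringOf V M ∧ f * f = f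
  let Atom : AddMonoid.End V → Prop := fun e => Idem e ∧ e ≠ 0 ∧ ∀ f, Idem f → f * e = f → f = 0 ∨ f = e
  have hcomm : ∀ {r s}, r ∈ ringOf V M → s ∈ ringOf V M → r * s = s * r := fun hr hs => ringOf_mul_comm hM hr hs
  have horth : ∀ e f, Atom e → Atom f → e ≠ f → e * f = 0 := by
    intro e f he hf hne
    have hef : Idem (e * f) := ⟨mul_mem he.1.1 hf.1.1, by
      rw [mul_assoc, ← mul_assoc f e, hcomm hf.1.1 he.1.1, mul_assoc e f, hf.1.2, ← mul_assoc, he.1.2]⟩
    rcases he.2.2 _ hef (by rw [mul_assoc, hcomm hf.1.1 he.1.1, ← mul_assoc, he.1.2]) with h | h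
    · exact h
    rcases hf.2.2 _ hef (by rw [mul_assoc, hf.1.2]) with h' | h'
    · exact h'
    exact absurd (h.symm.trans h') hne
  -- an atom below every non-zero idempotent
  have hbelow : ∀ g, Idem g → g ≠ 0 → ∃ e, Atom e ∧ e * g = e := by
    intro g hg hg0
    obtain ⟨e, ⟨he, he0, heg⟩, hmin⟩ := Set.Finite.exists_minimalFor
      (fun e : AddMonoid.End V => Nat.card (AddMonoidHom.range (e : V →+ V)))
      {e | Idem e ∧ e ≠ 0 ∧ e * g = e} (Set.toFinite _) ⟨g, hg, hg0, hg.2⟩
    refine ⟨e, ⟨he, he0, fun f hf hfe => ?_⟩, heg⟩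
    by_cases hf0 : f = 0
    · exact Or.inl hf0
    refine Or.inr ?_
    have hle : AddMonoidHom.range (f : V →+ V) ≤ AddMonoidHom.range (e : V →+ V) := by
      rintro _ ⟨x, rfl⟩
      refine ⟨f x, ?_⟩
      show (e * f) x = f x
      rw [hcomm he.1 hf.1, hfe]
    have hcard := hmin (j := f) ⟨hf, hf0, by rw [← hfe, mul_assoc, heg]⟩ (AddSubgroup.card_le_of_le hle)
    have heq := AddSubgroup.eq_of_le_of_card_ge hle hcard
    refine AddMonoidHom.ext fun x => ?_
    obtain ⟨y, hy⟩ : e x ∈ AddMonoidHom.range (f : V →+ V) := heq ▸ ⟨x, rfl⟩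
    show f x = e x
    conv_lhs => rw [← hfe]
    show f (e x) = e x
    rw [← hy]
    show (f * f) y = f y
    rw [hf.2]
  let ι := {e : AddMonoid.End V // Atom e}
  letI : Fintype ι := Fintype.ofFinite _
  set s : AddMonoid.End V := ∑ e : ι, e.1 with hs_def
  have hsum : s = 1 := by
    by_contra hne
    have hsR : s ∈ ringOf V M := sum_mem fun e _ => e.2.1.1
    have hse : ∀ e : ι, e.1 * s = e.1 := fun e => by
      rw [hs_def, Finset.mul_sum, Finset.sum_eq_single e]
      · exact e.2.1.2
      · exact fun f _ hf => horth _ _ e.2 f.2 fun h => hf (Subtype.ext h).symm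
      · exact fun h => absurd (Finset.mem_univ e) h
    have hss : s * s = s := by
      conv_lhs => arg 1; rw [hs_def]
      rw [Finset.sum_mul, Finset.sum_congr rfl fun e _ => hse e, ← hs_def]
    obtain ⟨e, he, hes⟩ := hbelow (1 - s) ⟨sub_mem (one_mem _) hsR, by
      simp [sub_mul, mul_sub, hss]⟩ (sub_ne_zero.mpr (Ne.symm hne))
    rw [mul_sub, mul_one, hse ⟨e, he⟩, sub_self] at hes
    exact he.2.1 hes.symm
  have hcardι : 2 ≤ Fintype.card ι := by
    obtain ⟨a₁, ha₁, ha₁e⟩ := hbelow e₀ ⟨he₀R, he₀⟩ he₀0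
    obtain ⟨a₂, ha₂, ha₂e⟩ := hbelow (1 - e₀) ⟨sub_mem (one_mem _) he₀R, by simp [sub_mul, mul_sub, he₀]⟩
      (sub_ne_zero.mpr (Ne.symm he₀1))
    refine Fintype.one_lt_card_iff.mpr ⟨⟨a₁, ha₁⟩, ⟨a₂, ha₂⟩, fun h => ha₂.2.1 ?_⟩
    have h' : a₁ = a₂ := congrArg Subtype.val h
    rw [mul_sub, mul_one, ← h', ha₁e, sub_self] at ha₂e
    rw [← h', ← ha₂e]
  have hconjAtom : ∀ (a : A) e, Atom e → Atom (conjEnd a e) := by
    intro a e he
    have hI : ∀ (b : A) (f : AddMonoid.End V), Idem f → Idem (conjEnd b f) := fun b f hf =>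
      ⟨conjEnd_mem_ringOf b hf.1, by rw [← conjEnd_mul, hf.2]⟩
    have hz : ∀ (b : A) (f : AddMonoid.End V), conjEnd b f = (0 : AddMonoid.End V) → f = 0 := fun b f h => by
      have := congrArg (conjEnd b⁻¹) h
      rw [conjEnd_conjEnd, inv_mul_cancel, conjEnd_one] at this
      rw [this]
      simp [conjEnd]
    refine ⟨hI a e he.1, fun h => he.2.1 (hz a e h), fun f hf hfe => ?_⟩
    have h1 : conjEnd a⁻¹ f * e = conjEnd a⁻¹ f := by
      have := congrArg (conjEnd a⁻¹) hfe
      rwa [conjEnd_mul, conjEnd_conjEnd a⁻¹ a e, inv_mul_cancel, conjEnd_one] at this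
    rcases he.2.2 _ (hI a⁻¹ f hf) h1 with h | h
    · exact Or.inl (hz a⁻¹ f h)
    · refine Or.inr ?_
      rw [← h, conjEnd_conjEnd, mul_inv_cancel, conjEnd_one]
  letI : MulAction A ι :=
    { smul := fun a e => ⟨conjEnd a e.1, hconjAtom a e.1 e.2⟩
      one_smul := fun e => Subtype.ext (conjEnd_one e.1)
      mul_smul := fun a b e => Subtype.ext (conjEnd_conjEnd a b e.1).symm }
  let W : ι → AddSubgroup V := fun e => AddMonoidHom.range (e.1 : V →+ V)
  refine Or.inl (pair_of_system IH hV hA hs hirr hcardι W (fun e h => e.2.2.1 (AddMonoidHom.ext fun x => ?_))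
    (fun a e v hv => ?_) fun f hf hsum0 e => ?_)
  · have hx : e.1 x ∈ W e := ⟨x, rfl⟩
    rw [h, AddSubgroup.mem_bot] at hx
    exact hx
  · obtain ⟨x, rfl⟩ := hv
    exact ⟨a • x, (smul_apply_eq_conjEnd a e.1 x).symm⟩
  · have hproj : ∀ g : ι, e.1 (f g) = if g = e then f e else 0 := by
      intro g
      obtain ⟨x, hx⟩ := hf g
      show _ = _
      rw [← hx]
      split_ifs with h
      · subst h
        rw [← hx]
        show (g.1 * g.1) x = g.1 x
        rw [g.2.1.2]
      · show (e.1 * g.1) x = 0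
        rw [horth _ _ e.2 g.2 fun h' => h (Subtype.ext h').symm]
        rfl
    have h := congrArg e.1 hsum0
    rw [map_sum, map_zero, Finset.sum_congr rfl fun g _ => hproj g, Finset.sum_ite_eq' Finset.univ e,
      if_pos (Finset.mem_univ e)] at h
    exact h

end CfsgLib.OddPair
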