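import Mathlib

/-!
The numerical inequalities behind the count of fixed pairs.
-/

set_option autoImplicit false

namespace CfsgLib.OddPair

theorem twentyseven_pow_lt : ∀ e : ℕ, 25 ≤ e → 27 * e ^ 18 < 16 ^ e := by
  intro e he
  induction e, he using Nat.le_induction with
  | base => norm_num
  | succ n hn ih =>
    have h1 : 25 ^ 18 * (n + 1) ^ 18 ≤ 26 ^ 18 * n ^ 18 := by
      rw [← mul_pow, ← mul_pow]; exact Nat.pow_le_pow_left (by omega) 18
    rw [pow_succ (16 : ℕ)]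
    refine Nat.lt_of_mul_lt_mul_left (a := 25 ^ 18) ?_
    calc 25 ^ 18 * (27 * (n + 1) ^ 18) = 27 * (25 ^ 18 * (n + 1) ^ 18) := Nat.mul_left_comm _ _ _
      _ ≤ 27 * (26 ^ 18 * n ^ 18) := Nat.mul_le_mul_left _ h1
      _ = 26 ^ 18 * (27 * n ^ 18) := Nat.mul_left_comm _ _ _
      _ < 26 ^ 18 * 16 ^ n := Nat.mul_lt_mul_of_pos_left ih (by norm_num)
      _ ≤ (25 ^ 18 * 16) * 16 ^ n := Nat.mul_le_mul_right _ (by norm_num)
      _ = 25 ^ 18 * (16 ^ n * 16) := by rw [mul_comm (16 ^ n), mul_assoc]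

/-- The two inequalities used in the count. -/
theorem count_arith {e d Q a : ℕ} (he : Odd e) (he1 : e ≠ 1) (hed : e ≤ d) (hQ : IsPrimePow Q)
    (hr : ∀ r, r.Prime → r ∣ e → r ∣ Q - 1) (hbound : a ≤ e ^ 4 ∧ (e = 3 → a = 1) ∧ (e = 5 → a ≤ 15) ∧
      (e = 7 → a ≤ 63) ∧ (e = 9 → a ≤ 5)) :
    (a = 1 → Q ^ 6 * (e ^ 2) ^ 3 < (Q ^ d) ^ 4) ∧
      (a ≠ 1 → 27 * (e ^ 2) ^ 3 * a ^ 3 < (Q ^ d) ^ 2) ∧ 3 ≤ d ∧ 4 ≤ Q := by
  obtain ⟨hb, hb3, hb5, hb7, hb9⟩ := hbound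
  obtain ⟨t, rfl⟩ := he
  have hQ2 := hQ.two_le
  have key : ∀ {r b : ℕ}, r.Prime → r ∣ 2 * t + 1 → b ≤ r + 1 → b ≤ Q := fun {r b} hp hd hb' => by
    have := Nat.le_of_dvd (by omega) (hr r hp hd)
    omega
  have h4 : 4 ≤ Q := by
    have hp := Nat.minFac_prime he1
    have h2 : Nat.minFac (2 * t + 1) ≠ 2 := fun h => by
      have := h ▸ Nat.minFac_dvd (2 * t + 1)
      omega
    exact key hp (Nat.minFac_dvd _) (by have := hp.two_le; omega)
  refine ⟨fun _ => ?_, fun ha => ?_, by omega, h4⟩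
  · set e := 2 * t + 1 with he
    rw [← pow_mul, ← pow_mul, show d * 4 = 6 + (d * 4 - 6) by omega, pow_add]
    refine Nat.mul_lt_mul_of_pos_left ?_ (by positivity)
    refine lt_of_lt_of_le (b := 4 ^ (e * 4 - 6)) ?_
      (le_trans (Nat.pow_le_pow_left h4 _) (Nat.pow_le_pow_right (by omega) (by omega)))
    rcases (show e = 3 ∨ e = 5 ∨ 6 ≤ e by omega) with h | h | h
    · rw [h]; norm_num
    · rw [h]; norm_num
    · calc e ^ (2 * 3) < (2 ^ e) ^ (2 * 3) := Nat.pow_lt_pow_left Nat.lt_two_pow_self (by norm_num)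
        _ = 4 ^ (e * 3) := by rw [show (4 : ℕ) = 2 ^ 2 from rfl, ← pow_mul, ← pow_mul]; ring_nf
        _ ≤ _ := Nat.pow_le_pow_right (by norm_num) (by omega)
  · have fin : ∀ b c : ℕ, b ≤ Q → a ≤ c → 27 * ((2 * t + 1) ^ 2) ^ 3 * c ^ 3 < b ^ (2 * (2 * t + 1)) →
        27 * ((2 * t + 1) ^ 2) ^ 3 * a ^ 3 < (Q ^ d) ^ 2 := fun b c hbQ hac h =>
      calc 27 * ((2 * t + 1) ^ 2) ^ 3 * a ^ 3 ≤ 27 * ((2 * t + 1) ^ 2) ^ 3 * c ^ 3 :=
            Nat.mul_le_mul_left _ (Nat.pow_le_pow_left hac 3)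
        _ < b ^ (2 * (2 * t + 1)) := h
        _ ≤ Q ^ (2 * (2 * t + 1)) := Nat.pow_le_pow_left hbQ _
        _ ≤ Q ^ (d * 2) := Nat.pow_le_pow_right (by omega) (by omega)
        _ = _ := pow_mul _ _ _
    rcases (show t = 1 ∨ t = 2 ∨ t = 3 ∨ t = 4 ∨ t = 5 ∨ t = 6 ∨ t = 7 ∨ t = 8 ∨ t = 9 ∨ t = 10 ∨ t = 11 ∨ 12 ≤ t by omega)
      with rfl | rfl | rfl | rfl | rfl | rfl | rfl | rfl | rfl | rfl | rfl | ht
    · exact absurd (hb3 rfl) ha
    · have h11 : 11 ≤ Q := by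
        have h6 := key (r := 5) (b := 6) (by norm_num) (by norm_num) le_rfl
        have hd := hr 5 (by norm_num) (by norm_num)
        have : Q ≠ 6 := by
          rintro rfl
          obtain ⟨p, k, hp, hk, h⟩ := hQ
          have h2 : 2 = p := (Nat.prime_dvd_prime_iff_eq Nat.prime_two hp.nat_prime).mp
            (Nat.prime_two.dvd_of_dvd_pow (h ▸ by norm_num : 2 ∣ p ^ k))
          have h3 : 3 = p := (Nat.prime_dvd_prime_iff_eq Nat.prime_three hp.nat_prime).mp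
            (Nat.prime_three.dvd_of_dvd_pow (h ▸ by norm_num : 3 ∣ p ^ k))
          omega
        omega
      exact fin 11 15 h11 (hb5 rfl) (by norm_num)
    · exact fin 8 63 (key (r := 7) (by norm_num) (by norm_num) le_rfl) (hb7 rfl) (by norm_num)
    · exact fin 4 5 h4 (hb9 rfl) (by norm_num)
    · exact fin 12 _ (key (r := 11) (by norm_num) (by norm_num) le_rfl) hb (by norm_num)
    · exact fin 14 _ (key (r := 13) (by norm_num) (by norm_num) le_rfl) hb (by norm_num)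
    · exact fin 6 _ (key (r := 5) (by norm_num) (by norm_num) le_rfl) hb (by norm_num)
    · exact fin 18 _ (key (r := 17) (by norm_num) (by norm_num) le_rfl) hb (by norm_num)
    · exact fin 20 _ (key (r := 19) (by norm_num) (by norm_num) le_rfl) hb (by norm_num)
    · exact fin 8 _ (key (r := 7) (by norm_num) (by norm_num) le_rfl) hb (by norm_num)
    · exact fin 24 _ (key (r := 23) (by norm_num) (by norm_num) le_rfl) hb (by norm_num)
    · refine fin 4 _ h4 hb ?_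
      have h := twentyseven_pow_lt (2 * t + 1) (by omega)
      rw [pow_mul (4 : ℕ), mul_assoc, ← pow_mul, ← pow_mul, ← pow_add]
      norm_num at h ⊢
      exact h

end CfsgLib.OddPair
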