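import Mathlib

/-!
Pairs of vectors with trivial common stabiliser for completely reducible groups of odd order:
the statement below a bound on the number of vectors, and elementary facts about odd order.
-/

set_option autoImplicit false
set_option linter.style.haveILetI false

namespace CfsgLib.OddPair

/-- Every invariant subgroup has an invariant complement. -/
def IsCR (A V : Type*) [Group A] [AddCommGroup V] [DistribMulAction A V] : Prop :=
  ∀ U : AddSubgroup V, (∀ a : A, ∀ v ∈ U, a • v ∈ U) →
    ∃ W : AddSubgroup V, (∀ a : A, ∀ w ∈ W, a • w ∈ W) ∧ U ⊓ W = ⊥ ∧ U ⊔ W = ⊤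

/-- The theorem for modules with at most `n` vectors. -/
def PairsBelow (n : ℕ) : Prop :=
  ∀ (V : Type) [AddCommGroup V] [Finite V], Nat.card V ≤ n →
    ∀ (A : Type) [Group A] [Finite A] [DistribMulAction A V], Odd (Nat.card A) → Group.IsSolvable A →
      IsCR A V → ∃ v w : V, ∀ a : A, a • v = v → a • w = w → ∀ x : V, a • x = x

theorem PairsBelow.mono {m n : ℕ} (h : PairsBelow n) (hmn : m ≤ n) : PairsBelow m :=
  fun V _ _ hV => h V (hV.trans hmn)

theorem odd_orderOf {A : Type*} [Group A] [Finite A] (hA : Odd (Nat.card A)) (a : A) : Odd (orderOf a) :=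
  hA.of_dvd_nat (orderOf_dvd_natCard a)

/-- In odd order an element is a power of its square. -/
theorem mem_of_sq_mem {A : Type*} [Group A] [Finite A] (hA : Odd (Nat.card A)) (K : Subgroup A) {a : A}
    (h : a ^ 2 ∈ K) : a ∈ K := by
  obtain ⟨j, hj⟩ := odd_orderOf hA a
  have e : (a ^ 2) ^ (j + 1) = a := by
    rw [← pow_mul, show 2 * (j + 1) = orderOf a + 1 by omega, pow_succ, pow_orderOf_eq_one, one_mul]
  exact e ▸ pow_mem h _

/-- In odd order an element exchanging two points fixes them. -/
theorem smul_eq_of_swap {A X : Type*} [Group A] [Finite A] [MulAction A X] (hA : Odd (Nat.card A)) {a : A} {x : X}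
    (h : a • a • x = x) : a • x = x :=
  mem_of_sq_mem hA (MulAction.stabilizer A x) (a := a) (by rw [MulAction.mem_stabilizer_iff, pow_two, mul_smul]; exact h)

end CfsgLib.OddPair
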