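import Cfsg.Agent.OddPair.Frame
import Cfsg.Agent.MovedVector.Linear

/-!
Fixed spaces, dimensions and field sizes for a frame.
-/

set_option autoImplicit false
set_option linter.style.haveILetI false

open scoped commutatorElement

namespace CfsgLib.OddPair

/-- The fixed vectors of an element. -/
def fixAdd {A : Type} (V : Type) [Group A] [AddCommGroup V] [DistribMulAction A V] (x : A) : AddSubgroup V where
  carrier := {v | x • v = v}
  zero_mem' := smul_zero x
  add_mem' := fun {a b} ha hb => by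
    show x • (a + b) = a + b
    rw [smul_add, ha, hb]
  neg_mem' := fun {a} ha => by
    show x • (-a) = -a
    rw [smul_neg, ha]

namespace Frame

variable {A V : Type} [Group A] [Finite A] [AddCommGroup V] [Finite V] [Nontrivial V] [DistribMulAction A V]
variable (φ : Frame A V)

theorem K_smul_def (r : φ.K) (x : V) : r • x = (r : AddMonoid.End V) x := rfl

instance : Module.Finite φ.K V := Module.Finite.of_finite

theorem commute_K {x : A} (hx : x ∈ φ.L) {r : AddMonoid.End V} (hr : r ∈ φ.K) :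
    endHom A V x * r = r * endHom A V x := by
  induction hr using Subring.closure_induction with
  | mem s hs => obtain ⟨c, hc, rfl⟩ := hs; rw [← map_mul, ← map_mul, φ.comm_C_L hc hx]
  | zero => rw [mul_zero, zero_mul]
  | one => rw [mul_one, one_mul]
  | add a b _ _ ha hb => rw [mul_add, add_mul, ha, hb]
  | neg a _ ha => rw [mul_neg, neg_mul, ha]
  | mul a b _ _ ha hb => rw [← mul_assoc, ha, mul_assoc, hb, mul_assoc]

/-- The centraliser of `C` acts linearly over the field. -/
noncomputable def linRep : φ.L →* Module.End φ.K V where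
  toFun x :=
    { toFun := fun v => (x : A) • v
      map_add' := smul_add _
      map_smul' := fun r v => DFunLike.congr_fun (φ.commute_K x.2 r.2) v }
  map_one' := LinearMap.ext fun v => one_smul A v
  map_mul' := fun x y => LinearMap.ext fun v => mul_smul (x : A) (y : A) v

theorem linRep_apply (x : φ.L) (v : V) : φ.linRep x v = (x : A) • v := rfl

theorem card_V : Nat.card V = Nat.card φ.K ^ Module.finrank φ.K V := Module.natCard_eq_pow_finrank

variable [FaithfulSMul A V]

theorem linRep_C (c : φ.C) : φ.linRep ⟨c, φ.C_le_L c.2⟩ = ((φ.unitHom c : φ.Kˣ) : φ.K) • 1 :=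
  LinearMap.ext fun _ => rfl

/-- For an element of `F` outside `C`: a conjugate differing by a central element of odd prime order. -/
theorem exists_root [Group.IsSolvable A] (hA : Odd (Nat.card A)) {n : A} (hn : n ∈ φ.F) (hnC : n ∉ φ.C) :
    ∃ (r j : ℕ) (t z : A), r.Prime ∧ r ≠ 2 ∧ t ∈ φ.F ∧ z ∈ φ.C ∧ z ≠ 1 ∧ z ^ r = 1 ∧
      t * n ^ j * t⁻¹ = n ^ j * z := by
  let nq : A ⧸ φ.C := (n : A ⧸ φ.C)
  set o := orderOf nq with ho
  have ho1 : o ≠ 1 := fun e => hnC ((QuotientGroup.eq_one_iff n).mp (orderOf_eq_one_iff.mp e))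
  set r := o.minFac with hr
  have hrp : r.Prime := Nat.minFac_prime ho1
  have hro : r ∣ o := Nat.minFac_dvd o
  have hopos : 0 < o := orderOf_pos _
  set j := o / r with hj
  have hjC : n ^ j ∉ φ.C := by
    rw [← QuotientGroup.eq_one_iff, QuotientGroup.mk_pow]
    intro h
    have h1 := Nat.le_of_dvd (Nat.div_pos (Nat.le_of_dvd hopos hro) hrp.pos) (orderOf_dvd_of_pow_eq_one h)
    have h2 : o / r < o := Nat.div_lt_self hopos hrp.one_lt
    rw [← ho] at h1
    omega
  have hjr : (n ^ j) ^ r ∈ φ.C := by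
    rw [← pow_mul, Nat.div_mul_cancel hro, ← QuotientGroup.eq_one_iff, QuotientGroup.mk_pow]
    exact pow_orderOf_eq_one _
  obtain ⟨t, ht, htz⟩ : ∃ t ∈ φ.F, ⁅t, n ^ j⁆ ≠ 1 := by
    by_contra h
    push Not at h
    refine hjC (φ.center_eq ▸ ⟨pow_mem hn j, Subgroup.mem_centralizer_iff.mpr fun f hf => ?_⟩)
    exact commutatorElement_eq_one_iff_mul_comm.mp (h f hf)
  set z := ⁅t, n ^ j⁆ with hz
  have hzC : z ∈ φ.C := φ.comm_mem t ht _ (pow_mem hn j)
  have hconj : t * n ^ j * t⁻¹ = n ^ j * z := by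
    rw [← φ.comm_C_L hzC (φ.F_le (pow_mem hn j)), hz, commutatorElement_def]
    group
  have hzr : z ^ r = 1 := by
    have h1 : (t * n ^ j * t⁻¹) ^ r = (n ^ j) ^ r := by
      rw [conj_pow, ← φ.comm_C_L hjr (φ.F_le ht), mul_inv_cancel_right]
    rw [hconj, (Commute.mul_pow (show Commute (n ^ j) z from (φ.comm_C_L hzC (φ.F_le (pow_mem hn j))).symm)),
      mul_eq_left] at h1
    exact h1
  refine ⟨r, j, t, z, hrp, ?_, ht, hzC, htz, hzr, hconj⟩
  intro h2
  exact htz (orderOf_eq_one_iff.mp (Nat.Coprime.eq_one_of_dvd (Nat.coprime_two_right.mpr (odd_orderOf hA z))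
    (h2 ▸ orderOf_dvd_of_pow_eq_one hzr)))

/-- A prime order in the units of the field is below its size. -/
theorem succ_le_card_K {z : A} {r : ℕ} (hz : z ∈ φ.C) (hz1 : z ≠ 1) (hr : r.Prime) (hzr : z ^ r = 1) :
    r ∣ Nat.card φ.K - 1 := by
  haveI := Fact.mk hr
  have ho : orderOf (φ.unitHom ⟨z, hz⟩) = r := by
    rw [orderOf_injective _ φ.unitHom_injective]
    exact orderOf_eq_prime (Subtype.ext hzr) (fun e => hz1 (congrArg Subtype.val e))
  rw [← Nat.card_units, ← ho]
  exact orderOf_dvd_natCard _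

/-- An element of `F` outside `C` fixes at most the cube root. -/
theorem card_fix_F [Group.IsSolvable A] (hA : Odd (Nat.card A)) {n : A} (hn : n ∈ φ.F) (hnC : n ∉ φ.C) :
    Nat.card (fixAdd V n) ^ 3 ≤ Nat.card V := by
  obtain ⟨r, j, t, z, hr, hr2, ht, hz, hz1, hzr, hconj⟩ := φ.exists_root hA hn hnC
  haveI := Fact.mk hr
  have hk : (r : φ.K) ≠ 0 := by
    intro h0
    obtain ⟨p, hp⟩ := CharP.exists φ.K
    haveI := hp
    have hpr : r = p := by
      have hd := (CharP.cast_eq_zero_iff φ.K p r).mp h0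
      rcases hr.eq_one_or_self_of_dvd p hd with h | h
      · exact absurd h (CharP.ringChar_ne_one (R := φ.K) |> fun h' => by
          rw [← ringChar.eq φ.K p] at *; exact fun e => h' e)
      · exact h.symm
    subst hpr
    haveI := expChar_prime φ.K r
    refine hz1 (congrArg Subtype.val (φ.unitHom_injective (a₁ := ⟨z, hz⟩) (a₂ := 1) ?_))
    rw [map_one]
    refine Units.ext ?_
    rw [Units.val_one]
    refine frobenius_inj φ.K r ?_
    rw [frobenius_def, frobenius_def, one_pow, ← Units.val_pow_eq_pow_val, ← map_pow,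
      show (⟨z, hz⟩ : φ.C) ^ r = 1 from Subtype.ext hzr, map_one, Units.val_one]
  have hnL : n ∈ φ.L := φ.F_le hn
  have h := MovedVector.card_fixed_pow_le hk φ.linRep (a := (⟨n, hnL⟩ : φ.L) ^ j) (t := ⟨t, φ.F_le ht⟩)
    (z := ⟨z, φ.C_le_L hz⟩) (Subtype.ext hzr) (Subtype.ext hconj)
    (Subtype.ext (φ.comm_C_L hz (pow_mem hnL j)).symm) (Subtype.ext (φ.comm_C_L hz (φ.F_le ht)).symm)
    (fun m hm v hv => φ.eq_zero_of_fixed (pow_mem hz m) (fun e => hm (by
      rw [← orderOf_eq_prime hzr hz1]; exact orderOf_dvd_of_pow_eq_one e)) hv)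
  refine le_trans ?_ h
  refine le_trans (Nat.pow_le_pow_left ?_ 3) (Nat.pow_le_pow_right ?_ ?_)
  · refine Nat.card_le_card_of_injective (fun v => ⟨(v : V), ?_⟩) fun a b e => Subtype.ext (congrArg (·.1) e)
    show (n ^ j) • (v : V) = v
    exact (pow_mem (show n ∈ MulAction.stabilizer A (v : V) from v.2) j : n ^ j ∈ MulAction.stabilizer A (v : V))
  · haveI : Nonempty {v : V // φ.linRep ((⟨n, hnL⟩ : φ.L) ^ j) v = v} := ⟨⟨0, map_zero _⟩⟩
    exact Nat.card_pos
  · have := hr.two_le
    omega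

omit [FaithfulSMul A V] [Finite A] [Nontrivial V] in
/-- The fixed space of a product. -/
theorem card_fix_sq_le {x y n : A} (h : ∀ v : V, x • v = v → y • v = v → n • v = v) :
    Nat.card (fixAdd V x) * Nat.card (fixAdd V y) ≤ Nat.card V * Nat.card (fixAdd V n) := by
  have h1 : Nat.card (fixAdd V x ⊓ fixAdd V y : AddSubgroup V) ≤ Nat.card (fixAdd V n) :=
    AddSubgroup.card_le_of_le fun v hv => h v hv.1 hv.2
  have h2 : Nat.card (fixAdd V x) ≤ Nat.card (fixAdd V x ⊓ fixAdd V y : AddSubgroup V) * (fixAdd V y).index := by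
    rw [← (fixAdd V x ⊓ fixAdd V y).relIndex_bot_left, ← (fixAdd V x).relIndex_bot_left,
      ← AddSubgroup.relIndex_mul_relIndex ⊥ (fixAdd V x ⊓ fixAdd V y) (fixAdd V x) bot_le inf_le_left,
      AddSubgroup.inf_relIndex_left]
    refine Nat.mul_le_mul_left _ ?_
    rw [← AddSubgroup.relIndex_top_right]
    exact AddSubgroup.relIndex_le_of_le_right le_top AddSubgroup.index_ne_zero_of_finite
  calc Nat.card (fixAdd V x) * Nat.card (fixAdd V y)
      ≤ Nat.card (fixAdd V x ⊓ fixAdd V y : AddSubgroup V) * (fixAdd V y).index * Nat.card (fixAdd V y) :=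
        Nat.mul_le_mul_right _ h2
    _ = Nat.card (fixAdd V x ⊓ fixAdd V y : AddSubgroup V) * Nat.card V := by
        rw [mul_assoc, AddSubgroup.index_mul_card]
    _ ≤ _ := by rw [mul_comm]; exact Nat.mul_le_mul_left _ h1

/-- An element of the centraliser of `C` outside `F`. -/
theorem card_fix_L [Group.IsSolvable A] (hA : Odd (Nat.card A)) {x : A} (hx : x ∈ φ.L) (hxF : x ∉ φ.F) :
    Nat.card (fixAdd V x) ^ 3 ≤ Nat.card V ^ 2 := by
  obtain ⟨f, hf, hn⟩ : ∃ f ∈ φ.F, ⁅x, f⁆ ∉ φ.C := by
    by_contra h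
    push Not at h
    exact hxF (φ.mem_F_of_comm hx h)
  have hnF : ⁅x, f⁆ ∈ φ.F := by
    rw [commutatorElement_def]
    exact mul_mem (φ.F_normal.conj_mem f hf x) (inv_mem hf)
  have h1 := card_fix_sq_le (V := V) (x := x) (y := f * x * f⁻¹) (n := ⁅x, f⁆) fun v hv hv' => by
    rw [show ⁅x, f⁆ = x * (f * x * f⁻¹)⁻¹ by rw [commutatorElement_def]; group, mul_smul,
      inv_smul_eq_iff.mpr hv'.symm, hv]
  have h2 : Nat.card (fixAdd V (f * x * f⁻¹)) = Nat.card (fixAdd V x) :=
    Nat.card_congr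
      { toFun := fun v => ⟨f⁻¹ • (v : V), by
          show x • f⁻¹ • (v : V) = f⁻¹ • (v : V)
          rw [eq_inv_smul_iff, ← mul_smul, ← mul_smul]
          exact v.2⟩
        invFun := fun v => ⟨f • (v : V), by
          show (f * x * f⁻¹) • f • (v : V) = f • (v : V)
          rw [← mul_smul, inv_mul_cancel_right, mul_smul, show x • (v : V) = v from v.2]⟩
        left_inv := fun v => Subtype.ext (smul_inv_smul f (v : V))
        right_inv := fun v => Subtype.ext (inv_smul_smul f (v : V)) }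
  rw [h2] at h1
  have h3 := φ.card_fix_F hA hnF hn
  set a := Nat.card (fixAdd V x)
  set b := Nat.card (fixAdd V ⁅x, f⁆)
  set N := Nat.card V
  have h4 : (a ^ 3) ^ 2 ≤ (N ^ 2) ^ 2 := by
    calc (a ^ 3) ^ 2 = (a * a) ^ 3 := by ring
      _ ≤ (N * b) ^ 3 := Nat.pow_le_pow_left h1 3
      _ = N ^ 3 * b ^ 3 := by ring
      _ ≤ N ^ 3 * N := Nat.mul_le_mul_left _ h3
      _ = (N ^ 2) ^ 2 := by ring
  exact (Nat.pow_le_pow_iff_left (by norm_num)).mp h4

theorem C_isCyclic : IsCyclic φ.C := isCyclic_of_injective _ φ.unitHom_injective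

/-- An element of odd prime order outside the centraliser of `C`. -/
theorem card_fix_outside {x : A} {s : ℕ} (hs : s.Prime) (hxs : x ^ s = 1) (hxL : x ∉ φ.L) (hs2 : s ≠ 2) :
    Nat.card (fixAdd V x) ^ 3 ≤ Nat.card V := by
  classical
  haveI := Fact.mk hs
  obtain ⟨c, hc⟩ := φ.C_isCyclic.exists_generator
  have hx1 : x ≠ 1 := fun e => hxL (e ▸ one_mem _)
  have hxo : orderOf x = s := orderOf_eq_prime hxs hx1
  have hmem : ∀ j : ℕ, x ^ j * (c : A) * (x ^ j)⁻¹ ∈ φ.C := fun j => φ.C_normal.conj_mem _ c.2 _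
  let lam : Fin s → φ.K := fun j => ⟨endHom A V (x ^ (j : ℕ) * (c : A) * (x ^ (j : ℕ))⁻¹), endHom_mem_ringOf (hmem j)⟩
  have hlam : Function.Injective lam := by
    intro i j hij
    by_contra hne
    wlog hlt : (i : ℕ) < j generalizing i j
    · exact this hij.symm (Ne.symm hne) (by omega)
    have he : x ^ (i : ℕ) * (c : A) * (x ^ (i : ℕ))⁻¹ = x ^ (j : ℕ) * (c : A) * (x ^ (j : ℕ))⁻¹ :=
      eq_of_smul_eq_smul (α := V) fun v => DFunLike.congr_fun (congrArg Subtype.val hij) v
    set m := (j : ℕ) - i with hm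
    have hcm : x ^ m * (c : A) = (c : A) * x ^ m := by
      rw [show (j : ℕ) = i + m by omega, pow_add] at he
      calc x ^ m * (c : A) = (x ^ (i : ℕ))⁻¹ * (x ^ (i : ℕ) * x ^ m * (c : A) * (x ^ (i : ℕ) * x ^ m)⁻¹) *
            x ^ (i : ℕ) * x ^ m := by group
        _ = (c : A) * x ^ m := by rw [← he]; group
    have hxm : x ^ m ∈ φ.L := Subgroup.mem_centralizer_iff.mpr fun d hd => by
      obtain ⟨k, hk⟩ := hc ⟨d, hd⟩
      have hk' : (c : A) ^ k = d := congrArg Subtype.val hk
      rw [← hk']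
      exact (Commute.zpow_left (show Commute (c : A) (x ^ m) from hcm.symm) k).eq
    refine hxL ?_
    obtain ⟨k, hk⟩ := exists_pow_eq_self_of_coprime (x := x) (n := m) (by
      rw [hxo]
      exact ((hs.coprime_iff_not_dvd).mpr fun hd => by
        have := Nat.le_of_dvd (by omega) hd
        have := j.2
        omega).symm)
    exact hk ▸ pow_mem hxm k
  let f : (Fin s → fixAdd V x) → V := fun v => ∑ i : Fin s, (c : A) ^ (i : ℕ) • (v i : V)
  have hinj : Function.Injective f := by
    intro v v' hvv'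
    set w : Fin s → V := fun i => (v i : V) - v' i with hw
    have hfix : ∀ i, x • w i = w i := fun i => (sub_mem (v i).2 (v' i).2 : _ ∈ fixAdd V x)
    have hrow : ∀ j : Fin s, ∑ i : Fin s, lam j ^ (i : ℕ) • w i = 0 := by
      intro j
      have h0 : ∑ i : Fin s, (c : A) ^ (i : ℕ) • w i = 0 := by
        simp only [hw, smul_sub, Finset.sum_sub_distrib]
        exact sub_eq_zero.mpr hvv'
      have h1 := congrArg (fun u => x ^ (j : ℕ) • u) h0
      simp only [Finset.smul_sum, smul_zero] at h1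
      refine Eq.trans (Finset.sum_congr rfl fun i _ => ?_) h1
      have hxw : ∀ m : ℕ, x ^ m • w i = w i := fun m => by
        induction m with
        | zero => rw [pow_zero, one_smul]
        | succ m ih => rw [pow_succ', mul_smul, ih, hfix]
      rw [K_smul_def, SubmonoidClass.coe_pow]
      show ((endHom A V _) ^ (i : ℕ)) (w i) = _
      rw [← map_pow, conj_pow, endHom_apply, mul_smul, mul_smul, inv_smul_eq_iff.mpr (hxw j).symm]
    funext i
    refine Subtype.ext (sub_eq_zero.mp ?_)
    rw [← Module.forall_dual_apply_eq_zero_iff (R := φ.K)]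
    intro g
    have hmul : Matrix.mulVec (Matrix.vandermonde lam) (fun i => g (w i)) = 0 := by
      funext j
      have h := congrArg g (hrow j)
      rw [map_sum, map_zero] at h
      simp only [map_smul, smul_eq_mul] at h
      exact h
    have := Matrix.eq_zero_of_mulVec_eq_zero (Matrix.det_vandermonde_ne_zero_iff.mpr hlam) hmul
    exact congrFun this i
  have h := Nat.card_le_card_of_injective f hinj
  rw [Nat.card_fun, Nat.card_eq_fintype_card (α := Fin s), Fintype.card_fin] at h
  refine le_trans (Nat.pow_le_pow_right Nat.card_pos ?_) h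
  have := hs.two_le
  omega

/-- The index of the centraliser of `C` is below the size of the field. -/
theorem index_L_le : φ.L.index ≤ Nat.card φ.K := by
  obtain ⟨c, hc⟩ := φ.C_isCyclic.exists_generator
  refine Nat.card_le_card_of_injective (fun a : A ⧸ φ.L => (⟨endHom A V (a.out * (c : A) * a.out⁻¹),
    endHom_mem_ringOf (φ.C_normal.conj_mem _ c.2 _)⟩ : φ.K)) fun a b hab => ?_
  have he : a.out * (c : A) * a.out⁻¹ = b.out * (c : A) * b.out⁻¹ :=
    eq_of_smul_eq_smul (α := V) fun v => DFunLike.congr_fun (congrArg Subtype.val hab) v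
  rw [← QuotientGroup.out_eq' a, ← QuotientGroup.out_eq' b, QuotientGroup.eq]
  refine Subgroup.mem_centralizer_iff.mpr fun d hd => ?_
  obtain ⟨k, hk⟩ := hc ⟨d, hd⟩
  rw [← show (c : A) ^ k = d from congrArg Subtype.val hk]
  refine (Commute.zpow_left (show Commute (c : A) (a.out⁻¹ * b.out) from ?_) k).eq
  show (c : A) * (a.out⁻¹ * b.out) = a.out⁻¹ * b.out * c
  calc (c : A) * (a.out⁻¹ * b.out) = a.out⁻¹ * (a.out * (c : A) * a.out⁻¹) * b.out := by group
    _ = _ := by rw [he]; group

/-- `|F : C|` is at most the dimension squared. -/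
theorem relIndex_le_dim [Group.IsSolvable A] : φ.C.relIndex φ.F ≤ Module.finrank φ.K V ^ 2 := by
  classical
  haveI := Fintype.ofFinite (φ.F ⧸ φ.C.subgroupOf φ.F)
  let T : φ.F ⧸ φ.C.subgroupOf φ.F → Module.End φ.K V :=
    fun c => φ.linRep ⟨((c.out : φ.F) : A), φ.F_le c.out.2⟩
  have hT : ∀ c (v : V), T c v = ((c.out : φ.F) : A) • v := fun c v => rfl
  have hli : LinearIndependent φ.K T := by
    rw [linearIndependent_iff']
    intro s
    induction s using Finset.strongInduction with
    | _ s ih =>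
      intro g hg i hi
      by_contra hgi
      have hall : ∀ j ∈ s, g j ≠ 0 := by
        intro j hj hgj
        have := ih (s.erase j) (Finset.erase_ssubset hj) g
          (by rw [Finset.sum_erase _ (by rw [hgj, zero_smul])]; exact hg) i
          (Finset.mem_erase.mpr ⟨fun h => hgi (h ▸ hgj), hi⟩)
        exact hgi this
      by_cases hs : s = {i}
      · rw [hs, Finset.sum_singleton] at hg
        obtain ⟨v, hv⟩ := exists_ne (0 : V)
        have h1 := LinearMap.congr_fun hg ((((i.out : φ.F) : A))⁻¹ • v)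
        rw [LinearMap.smul_apply, hT, smul_inv_smul, LinearMap.zero_apply, smul_eq_zero] at h1
        exact hgi (h1.resolve_right hv)
      obtain ⟨j, hj, hji⟩ : ∃ j ∈ s, j ≠ i := by
        by_contra h
        push Not at h
        exact hs (Finset.eq_singleton_iff_unique_mem.mpr ⟨hi, h⟩)
      obtain ⟨t, ht, htji⟩ : ∃ t ∈ φ.F, ⁅t, ((j.out : φ.F) : A)⁆ ≠ ⁅t, ((i.out : φ.F) : A)⁆ := by
        by_contra h
        push Not at h
        refine hji ?_
        rw [← QuotientGroup.out_eq' j, ← QuotientGroup.out_eq' i, QuotientGroup.eq, Subgroup.mem_subgroupOf]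
        refine φ.center_eq.le ⟨SetLike.coe_mem _, Subgroup.mem_centralizer_iff.mpr fun t ht => ?_⟩
        have h1 := h t ht
        rw [commutatorElement_def, commutatorElement_def] at h1
        simp only [Subgroup.coe_mul, Subgroup.coe_inv]
        set a := ((j.out : φ.F) : A)
        set b := ((i.out : φ.F) : A)
        have h3 : t * a * t⁻¹ * a⁻¹ * b = t * b * t⁻¹ := by rw [h1]; group
        calc t * (a⁻¹ * b) = (t * a * t⁻¹)⁻¹ * (t * b * t⁻¹) * t := by group
          _ = (t * a * t⁻¹)⁻¹ * ((t * a * t⁻¹ * a⁻¹) * b) * t := by rw [h3]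
          _ = a⁻¹ * b * t := by group
      let ζ : φ.F ⧸ φ.C.subgroupOf φ.F → φ.K := fun c =>
        ((φ.unitHom ⟨⁅t, ((c.out : φ.F) : A)⁆, φ.comm_mem t ht _ c.out.2⟩ : φ.Kˣ) : φ.K)
      have hconj : ∀ c (v : V), t • T c (t⁻¹ • v) = ζ c • T c v := by
        intro c v
        rw [hT, hT, ← mul_smul, ← mul_smul, K_smul_def, φ.unitHom_apply, endHom_apply, ← mul_smul]
        congr 1
        simp only [commutatorElement_def]
        group
      have h1 : ∑ c ∈ s, (g c * ζ c) • T c = 0 := by
        refine LinearMap.ext fun v => ?_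
        have h := congrArg (fun u => t • u) (LinearMap.congr_fun hg (t⁻¹ • v))
        simp only [LinearMap.sum_apply, LinearMap.smul_apply, Finset.smul_sum, LinearMap.zero_apply, smul_zero] at h ⊢
        refine Eq.trans (Finset.sum_congr rfl fun c _ => ?_) h
        rw [mul_smul, ← hconj]
        exact ((φ.linRep ⟨t, φ.F_le ht⟩).map_smul _ _).symm
      have h2 : ∑ c ∈ s.erase i, (g c * (ζ c - ζ i)) • T c = 0 := by
        rw [Finset.sum_erase _ (by rw [sub_self, mul_zero, zero_smul])]
        refine Eq.trans (Finset.sum_congr rfl fun c _ =>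
          show _ = (g c * ζ c) • T c - ζ i • (g c • T c) from ?_) ?_
        · rw [mul_sub, sub_smul, smul_smul, mul_comm (ζ i)]
        · rw [Finset.sum_sub_distrib, h1, ← Finset.smul_sum, hg, smul_zero, sub_self]
      have h3 := ih (s.erase i) (Finset.erase_ssubset hi) _ h2 j (Finset.mem_erase.mpr ⟨hji, hj⟩)
      rcases mul_eq_zero.mp h3 with h | h
      · exact hall j hj h
      · exact htji (congrArg Subtype.val (φ.unitHom_injective (Units.ext (sub_eq_zero.mp h))))
  have h := hli.fintype_card_le_finrank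
  rw [Module.finrank_linearMap, ← sq, ← Nat.card_eq_fintype_card] at h
  exact h

end Frame

end CfsgLib.OddPair
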