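import Cfsg.Agent.OddPair.Sections
import Cfsg.Agent.OddPair.Arith

/-!
Counting the pairs fixed by elements of prime order.
-/

set_option autoImplicit false
set_option linter.style.haveILetI false

open scoped commutatorElement

namespace CfsgLib.OddPair

namespace Frame

variable {A V : Type} [Group A] [Finite A] [AddCommGroup V] [Finite V] [Nontrivial V] [DistribMulAction A V]

open Classical in
omit [Finite A] [Nontrivial V] in
theorem double_count [Fintype V] (X : Finset A) (P : Finset (V × V)) (k W : ℕ)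
    (hk : ∀ p ∈ P, k ≤ (X.filter fun x => x • p.1 = p.1 ∧ x • p.2 = p.2).card)
    (hW : ∀ x ∈ X, Nat.card (fixAdd V x) ^ 2 ≤ W) : k * P.card ≤ X.card * W := by
  have h := Finset.card_mul_le_card_mul (fun (p : V × V) (x : A) => x • p.1 = p.1 ∧ x • p.2 = p.2)
    (s := P) (t := X) (m := k) (n := W) (fun p hp => hk p hp) fun x hx => ?_
  · rw [mul_comm]; exact h
  refine le_trans ?_ (hW x hx)
  rw [sq, ← Nat.card_prod, ← Nat.card_eq_finsetCard]
  exact Nat.card_le_card_of_injective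
    (fun p => (⟨p.1.1, (Finset.mem_filter.mp p.2).2.1⟩, ⟨p.1.2, (Finset.mem_filter.mp p.2).2.2⟩))
    fun p q e => Subtype.ext (Prod.ext (congrArg Subtype.val (congrArg Prod.fst e))
      (congrArg Subtype.val (congrArg Prod.snd e)))

omit [Finite A] [Finite V] [Nontrivial V] in
/-- The generators of a cyclic group of prime order fixing a pair. -/
theorem powers_le [Fintype A] [DecidableEq A] {x : A} {s : ℕ} (hs : s.Prime) (hx : orderOf x = s)
    (Q : A → Prop) [DecidablePred Q] (hQ : ∀ j, 1 ≤ j → j < s → Q (x ^ j)) :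
    s - 1 ≤ (Finset.univ.filter Q).card := by
  refine le_trans (le_of_eq (Finset.card_range _).symm) ?_
  refine Finset.card_le_card_of_injOn (fun j => x ^ (j + 1)) (fun j hj => ?_) fun i hi j hj e => ?_
  · have hj' := Finset.mem_range.mp hj
    exact Finset.mem_coe.mpr (Finset.mem_filter.mpr ⟨Finset.mem_univ _, hQ _ (by omega) (by omega)⟩)
  · have hi' := Finset.mem_range.mp (Finset.mem_coe.mp hi)
    have hj' := Finset.mem_range.mp (Finset.mem_coe.mp hj)
    have := pow_injOn_Iio_orderOf (x := x) (show i + 1 ∈ Set.Iio (orderOf x) by simp [hx]; omega)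
      (show j + 1 ∈ Set.Iio (orderOf x) by simp [hx]; omega) e
    omega

omit [Finite A] in
theorem orderOf_pow_of_lt {G : Type*} [Group G] {x : G} {s j : ℕ} (hs : s.Prime) (hx : orderOf x = s)
    (h1 : 1 ≤ j) (h2 : j < s) : orderOf (x ^ j) = s ∧ x ∈ Subgroup.zpowers (x ^ j) := by
  have hco : Nat.Coprime j (orderOf x) := by
    rw [hx]
    exact ((hs.coprime_iff_not_dvd).mpr fun h => by have := Nat.le_of_dvd h1 h; omega).symm
  refine ⟨(Nat.Coprime.orderOf_pow hco.symm).trans hx, ?_⟩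
  obtain ⟨k, hk⟩ := exists_pow_eq_self_of_coprime hco
  exact ⟨(k : ℤ), (zpow_natCast _ k).trans hk⟩

variable [FaithfulSMul A V] (φ : Frame A V)

open Classical in
/-- Pairs fixed by elements of prime order in `M` outside `M'`. -/
theorem two_mul_cover_le (hA : Odd (Nat.card A)) (M M' : Subgroup A) (hM : M ≤ φ.L) (hC : φ.C ≤ M') (W : ℕ)
    (hW : ∀ x ∈ M, x ∉ M' → Nat.card (fixAdd V x) ^ 2 ≤ W) :
    2 * Nat.card {p : V × V // ∃ x ∈ M, x ∉ M' ∧ (orderOf x).Prime ∧ x • p.1 = p.1 ∧ x • p.2 = p.2} ≤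
      3 * φ.C.relIndex M * W := by
  haveI := Fintype.ofFinite A
  haveI := Fintype.ofFinite V
  haveI := Fintype.ofFinite (A ⧸ φ.C)
  let q := QuotientGroup.mk' φ.C
  let X : ℕ → Finset A := fun s => Finset.univ.filter fun x => x ∈ M ∧ x ∉ M' ∧ orderOf x = s
  let P : ℕ → Finset (V × V) := fun s =>
    Finset.univ.filter fun p => ∃ x ∈ X s, x • p.1 = p.1 ∧ x • p.2 = p.2
  let I : ℕ → Finset (A ⧸ φ.C) := fun s => (X s).image q
  let S := (Nat.card A).primeFactors
  have hX : ∀ {s x}, x ∈ X s → x ∈ M ∧ x ∉ M' ∧ orderOf x = s := fun h => (Finset.mem_filter.mp h).2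
  have hord : ∀ s ∈ S, ∀ b ∈ I s, orderOf b = s := by
    intro s hs b hb
    obtain ⟨x, hx, rfl⟩ := Finset.mem_image.mp hb
    haveI := Fact.mk (Nat.prime_of_mem_primeFactors hs)
    obtain ⟨-, hxM', hxo⟩ := hX hx
    refine orderOf_eq_prime ?_ fun h => hxM' (hC ((QuotientGroup.eq_one_iff x).mp h))
    rw [← map_pow, ← hxo, pow_orderOf_eq_one, map_one]
  have hstep : ∀ s ∈ S, 2 * (P s).card ≤ 3 * (I s).card * W := by
    intro s hs
    have hsp := Nat.prime_of_mem_primeFactors hs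
    have hs3 : 3 ≤ s := by
      have h1 := hsp.two_le
      have h2 : s ≠ 2 := fun h => by
        have := Odd.of_dvd_nat hA (Nat.dvd_of_mem_primeFactors hs)
        rw [h] at this
        exact absurd this (by decide)
      omega
    have h1 : (s - 1) * (P s).card ≤ (X s).card * W := by
      refine double_count (X s) (P s) (s - 1) W (fun p hp => ?_) fun x hx => hW x (hX hx).1 (hX hx).2.1
      obtain ⟨x, hx, hx1, hx2⟩ := (Finset.mem_filter.mp hp).2
      obtain ⟨hxM, hxM', hxo⟩ := hX hx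
      have := powers_le hsp hxo (fun y => y ∈ X s ∧ y • p.1 = p.1 ∧ y • p.2 = p.2) fun j h1 h2 => by
        obtain ⟨ho, hmem⟩ := orderOf_pow_of_lt hsp hxo h1 h2
        refine ⟨Finset.mem_filter.mpr ⟨Finset.mem_univ _, pow_mem hxM j, fun h => hxM' ?_, ho⟩,
          (pow_mem (show x ∈ MulAction.stabilizer A p.1 from hx1) j : x ^ j ∈ MulAction.stabilizer A p.1),
          (pow_mem (show x ∈ MulAction.stabilizer A p.2 from hx2) j : x ^ j ∈ MulAction.stabilizer A p.2)⟩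
        exact Subgroup.zpowers_le.mpr h hmem
      refine this.trans (Finset.card_le_card fun y hy => ?_)
      obtain ⟨-, hy1, hy2⟩ := Finset.mem_filter.mp hy
      exact Finset.mem_filter.mpr ⟨hy1, hy2⟩
    have h2 : (X s).card ≤ s * (I s).card := by
      refine Finset.card_le_mul_card_image (X s) s fun b hb => ?_
      obtain ⟨x₀, hx₀, rfl⟩ := Finset.mem_image.mp hb
      haveI := φ.C_isCyclic
      refine le_trans ?_ (IsCyclic.card_pow_eq_one_le (α := φ.C) (n := s) hsp.pos)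
      refine Finset.card_le_card_of_injOn
        (fun y => if h : x₀⁻¹ * y ∈ φ.C then ⟨_, h⟩ else 1) (fun y hy => ?_) fun y hy y' hy' e => ?_
      · obtain ⟨hyX, hyq⟩ := Finset.mem_filter.mp (Finset.mem_coe.mp hy)
        have h : x₀⁻¹ * y ∈ φ.C := QuotientGroup.eq.mp hyq.symm
        simp only [dif_pos h]
        refine Finset.mem_coe.mpr (Finset.mem_filter.mpr ⟨Finset.mem_univ _, Subtype.ext ?_⟩)
        have hc := φ.comm_C_L h (hM (hX hx₀).1)
        have hm := (show Commute x₀ (x₀⁻¹ * y) from hc.symm).mul_pow s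
        have hx₀s : x₀ ^ s = 1 := (hX hx₀).2.2 ▸ pow_orderOf_eq_one x₀
        have hys : y ^ s = 1 := (hX hyX).2.2 ▸ pow_orderOf_eq_one y
        rw [mul_inv_cancel_left, hys, hx₀s, one_mul] at hm
        exact hm.symm
      · obtain ⟨-, hyq⟩ := Finset.mem_filter.mp (Finset.mem_coe.mp hy)
        obtain ⟨-, hyq'⟩ := Finset.mem_filter.mp (Finset.mem_coe.mp hy')
        simp only [dif_pos (show x₀⁻¹ * y ∈ φ.C from QuotientGroup.eq.mp hyq.symm),
          dif_pos (show x₀⁻¹ * y' ∈ φ.C from QuotientGroup.eq.mp hyq'.symm)] at e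
        exact mul_left_cancel (congrArg Subtype.val e)
    refine Nat.le_of_mul_le_mul_left (c := s - 1) ?_ (by omega) |>.trans_eq rfl
    have h3 : (X s).card * W ≤ s * (I s).card * W := Nat.mul_le_mul_right _ h2
    have h4 : 2 * s ≤ 3 * (s - 1) := by omega
    calc (s - 1) * (2 * (P s).card) = 2 * ((s - 1) * (P s).card) := Nat.mul_left_comm _ _ _
      _ ≤ 2 * (s * (I s).card * W) := Nat.mul_le_mul_left _ (h1.trans h3)
      _ = 2 * s * ((I s).card * W) := by ring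
      _ ≤ 3 * (s - 1) * ((I s).card * W) := Nat.mul_le_mul_right _ h4
      _ = (s - 1) * (3 * (I s).card * W) := by ring
  have hsum : ∑ s ∈ S, (I s).card ≤ φ.C.relIndex M := by
    rw [← Finset.card_biUnion fun s hs t ht hst => Finset.disjoint_left.mpr fun b hb hb' =>
      hst ((hord s hs b hb).symm.trans (hord t ht b hb')),
      show φ.C.relIndex M = Nat.card (M.map q) by rw [← Subgroup.relIndex_ker, QuotientGroup.ker_mk'],
      ← Nat.card_eq_finsetCard]
    refine Nat.card_le_card_of_injective (fun b => ⟨b.1, ?_⟩) fun a b e => Subtype.ext (congrArg Subtype.val e :)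
    obtain ⟨s, -, hb⟩ := Finset.mem_biUnion.mp b.2
    obtain ⟨x, hx, e⟩ := Finset.mem_image.mp hb
    exact ⟨x, (hX hx).1, e⟩
  calc 2 * Nat.card {p : V × V // ∃ x ∈ M, x ∉ M' ∧ (orderOf x).Prime ∧ x • p.1 = p.1 ∧ x • p.2 = p.2}
      ≤ 2 * (S.biUnion P).card := by
        refine Nat.mul_le_mul_left _ ?_
        rw [← Nat.card_eq_finsetCard]
        refine Nat.card_le_card_of_injective (fun p => ⟨p.1, ?_⟩) fun a b e => Subtype.ext (congrArg Subtype.val e :)
        obtain ⟨x, hxM, hxM', hxp, h1, h2⟩ := p.2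
        exact Finset.mem_biUnion.mpr ⟨orderOf x, Nat.mem_primeFactors.mpr ⟨hxp, orderOf_dvd_natCard x, Nat.card_pos.ne'⟩,
          Finset.mem_filter.mpr ⟨Finset.mem_univ _, x,
            Finset.mem_filter.mpr ⟨Finset.mem_univ _, hxM, hxM', rfl⟩, h1, h2⟩⟩
    _ ≤ 2 * ∑ s ∈ S, (P s).card := Nat.mul_le_mul_left _ Finset.card_biUnion_le
    _ = ∑ s ∈ S, 2 * (P s).card := Finset.mul_sum _ _ _
    _ ≤ ∑ s ∈ S, 3 * (I s).card * W := Finset.sum_le_sum hstep
    _ = 3 * (∑ s ∈ S, (I s).card) * W := by rw [← Finset.sum_mul, Finset.mul_sum]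
    _ ≤ _ := Nat.mul_le_mul_right _ (Nat.mul_le_mul_left _ hsum)

open Classical in
omit [Nontrivial V] [FaithfulSMul A V] in
/-- Pairs fixed by elements of prime order outside a subgroup. -/
theorem two_mul_outside_le (hA : Odd (Nat.card A)) (M' : Subgroup A) (W : ℕ)
    (hW : ∀ x, x ∉ M' → (orderOf x).Prime → Nat.card (fixAdd V x) ^ 2 ≤ W) :
    2 * Nat.card {p : V × V // ∃ x, x ∉ M' ∧ (orderOf x).Prime ∧ x • p.1 = p.1 ∧ x • p.2 = p.2} ≤
      Nat.card A * W := by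
  haveI := Fintype.ofFinite A
  haveI := Fintype.ofFinite V
  let X : Finset A := Finset.univ.filter fun x => x ∉ M' ∧ (orderOf x).Prime
  let P : Finset (V × V) := Finset.univ.filter fun p => ∃ x ∈ X, x • p.1 = p.1 ∧ x • p.2 = p.2
  have h1 : 2 * P.card ≤ X.card * W := by
    refine double_count X P 2 W (fun p hp => ?_) fun x hx => hW x (Finset.mem_filter.mp hx).2.1 (Finset.mem_filter.mp hx).2.2
    obtain ⟨x, hx, hx1, hx2⟩ := (Finset.mem_filter.mp hp).2
    obtain ⟨hxM', hxp⟩ := (Finset.mem_filter.mp hx).2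
    have hodd := odd_orderOf hA x
    have hx2' : x ^ 2 ∉ M' := fun h => hxM' (mem_of_sq_mem hA M' h)
    have hxo : orderOf (x ^ 2) = orderOf x := Nat.Coprime.orderOf_pow (Nat.coprime_two_right.mpr hodd)
    have hne : x ≠ x ^ 2 := fun e => by
      rw [pow_two, left_eq_mul] at e
      exact hxM' (e ▸ one_mem _)
    refine le_trans (le_of_eq (Finset.card_pair hne).symm) (Finset.card_le_card fun y hy => ?_)
    rcases Finset.mem_insert.mp hy with rfl | hy
    · exact Finset.mem_filter.mpr ⟨hx, hx1, hx2⟩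
    · rw [Finset.mem_singleton.mp hy]
      refine Finset.mem_filter.mpr ⟨Finset.mem_filter.mpr ⟨Finset.mem_univ _, hx2', hxo ▸ hxp⟩,
        (pow_mem (show x ∈ MulAction.stabilizer A p.1 from hx1) 2 : x ^ 2 ∈ MulAction.stabilizer A p.1),
        (pow_mem (show x ∈ MulAction.stabilizer A p.2 from hx2) 2 : x ^ 2 ∈ MulAction.stabilizer A p.2)⟩
  refine le_trans (le_trans (Nat.mul_le_mul_left _ ?_) h1) (Nat.mul_le_mul_right _ ?_)
  · rw [← Nat.card_eq_finsetCard]
    refine Nat.card_le_card_of_injective (fun p => ⟨p.1, ?_⟩) fun a b e => Subtype.ext (congrArg Subtype.val e :)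
    obtain ⟨x, hxM', hxp, h1, h2⟩ := p.2
    exact Finset.mem_filter.mpr ⟨Finset.mem_univ _, x, Finset.mem_filter.mpr ⟨Finset.mem_univ _, hxM', hxp⟩, h1, h2⟩
  · rw [Nat.card_eq_fintype_card]
    exact Finset.card_le_univ X

/-- The prime divisors of `|F : C|` divide the order of the units of the field. -/
theorem prime_dvd_card_K [Group.IsSolvable A] {r : ℕ} (hr : r.Prime) (hd : r ∣ φ.C.relIndex φ.F) :
    r ∣ Nat.card φ.K - 1 := by
  haveI := Fact.mk hr
  rw [← QuotientGroup.ker_mk' φ.C, Subgroup.relIndex_ker] at hd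
  obtain ⟨b, hb⟩ := exists_prime_orderOf_dvd_card' r hd
  obtain ⟨n, hn, e⟩ := b.2
  rw [← Subgroup.orderOf_coe, ← e] at hb
  have hnC : n ∉ φ.C := fun h => hr.one_lt.ne' (hb.symm.trans (orderOf_eq_one_iff.mpr ((QuotientGroup.eq_one_iff n).mpr h)))
  have hnr : n ^ r ∈ φ.C := by
    rw [← QuotientGroup.eq_one_iff, QuotientGroup.mk_pow]
    exact hb ▸ pow_orderOf_eq_one _
  obtain ⟨t, ht, htz⟩ : ∃ t ∈ φ.F, ⁅t, n⁆ ≠ 1 := by
    by_contra h
    push Not at h
    refine hnC (φ.center_eq ▸ ⟨hn, Subgroup.mem_centralizer_iff.mpr fun f hf => ?_⟩)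
    exact commutatorElement_eq_one_iff_mul_comm.mp (h f hf)
  have hzC : ⁅t, n⁆ ∈ φ.C := φ.comm_mem t ht _ hn
  refine φ.succ_le_card_K hzC htz hr ?_
  have hconj : t * n * t⁻¹ = n * ⁅t, n⁆ := by
    rw [← φ.comm_C_L hzC (φ.F_le hn), commutatorElement_def]
    group
  have h1 : (t * n * t⁻¹) ^ r = n ^ r := by
    rw [conj_pow, ← φ.comm_C_L hnr (φ.F_le ht), mul_inv_cancel_right]
  rw [hconj, (Commute.mul_pow (show Commute n ⁅t, n⁆ from (φ.comm_C_L hzC (φ.F_le hn)).symm)), mul_eq_left] at h1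
  exact h1

/-- A frame gives a pair. -/
theorem exists_pair (φ : Frame A V) [Group.IsSolvable A] {n : ℕ} (IH : PairsBelow n) (hA : Odd (Nat.card A))
    (hV : Nat.card V ≤ n + 1) : ∃ v w : V, ∀ a : A, a • v = v → a • w = w → a = 1 := by
  classical
  obtain ⟨v₀, hv₀⟩ := exists_ne (0 : V)
  by_cases hFC : φ.F ≤ φ.C
  · obtain ⟨c, hc⟩ := φ.C_isCyclic.exists_generator
    refine ⟨v₀, (c : A) • v₀, fun a ha ha' => ?_⟩
    have haL : a ∈ φ.L := by
      have h1 : ((c : A)⁻¹ * (a * c * a⁻¹)) • v₀ = v₀ := by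
        rw [mul_smul, mul_smul, mul_smul, inv_smul_eq_iff.mpr ha.symm, ha', inv_smul_smul]
      have h2 : (c : A)⁻¹ * (a * c * a⁻¹) = 1 := by
        by_contra h
        exact hv₀ (φ.eq_zero_of_fixed (mul_mem (inv_mem c.2) (φ.C_normal.conj_mem _ c.2 a)) h h1)
      refine Subgroup.mem_centralizer_iff.mpr fun d hd => ?_
      obtain ⟨k, hk⟩ := hc ⟨d, hd⟩
      rw [← show (c : A) ^ k = d from congrArg Subtype.val hk]
      refine (Commute.zpow_left (show Commute (c : A) a from ?_) k).eq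
      show (c : A) * a = a * c
      calc (c : A) * a = a * c * a⁻¹ * a := by rw [← inv_mul_eq_one.mp h2]
        _ = a * c := inv_mul_cancel_right _ _
    have haC : a ∈ φ.C := by
      have hFC' : φ.F = φ.C := le_antisymm hFC φ.C_le
      have h := φ.centralizer_F
      rw [hFC'] at h
      exact h ▸ haL
    by_contra h
    exact hv₀ (φ.eq_zero_of_fixed haC h ha)
  by_contra hno
  push Not at hno
  have hprime : ∀ v w : V, ∃ x : A, (orderOf x).Prime ∧ x • v = v ∧ x • w = w := by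
    intro v w
    obtain ⟨a, ha, ha', ha1⟩ := hno v w
    have hp := Nat.minFac_prime (fun h => ha1 (orderOf_eq_one_iff.mp h) : orderOf a ≠ 1)
    refine ⟨a ^ (orderOf a / (orderOf a).minFac), ?_,
      (pow_mem (show a ∈ MulAction.stabilizer A v from ha) _ : _ ∈ MulAction.stabilizer A v),
      (pow_mem (show a ∈ MulAction.stabilizer A w from ha') _ : _ ∈ MulAction.stabilizer A w)⟩
    rw [orderOf_pow_orderOf_div (orderOf_pos a).ne' (Nat.minFac_dvd _)]
    exact hp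
  have hcover : ∀ p : V × V, ∃ x : A, x ∉ φ.C ∧ (orderOf x).Prime ∧ x • p.1 = p.1 ∧ x • p.2 = p.2 := by
    intro p
    obtain ⟨x, hxp, hx1, hx2⟩ := hprime p.1 p.2
    by_cases hxC : x ∈ φ.C
    · have hx0 : x ≠ 1 := fun h => hxp.ne_one (orderOf_eq_one_iff.mpr h)
      obtain ⟨y, hyp, hy1, -⟩ := hprime v₀ v₀
      refine ⟨y, fun hyC => hv₀ (φ.eq_zero_of_fixed hyC (fun h => hyp.ne_one (orderOf_eq_one_iff.mpr h)) hy1), hyp, ?_⟩
      rw [φ.eq_zero_of_fixed hxC hx0 hx1, φ.eq_zero_of_fixed hxC hx0 hx2]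
      exact ⟨smul_zero y, smul_zero y⟩
    · exact ⟨x, hxC, hxp, hx1, hx2⟩
  -- the parameters
  obtain ⟨e, he⟩ := φ.exists_sq
  set N := Nat.card V with hN
  set Q := Nat.card φ.K with hQ
  set d := Module.finrank φ.K V
  set a := φ.F.relIndex φ.L
  have hed : e ≤ d := by
    have := φ.relIndex_le_dim
    rw [he] at this
    exact (Nat.pow_le_pow_iff_left two_ne_zero).mp this
  have he1 : e ≠ 1 := fun h => hFC (Subgroup.relIndex_eq_one.mp (by rw [he, h, one_pow]))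
  have hu : φ.C.relIndex φ.F ∣ Nat.card A :=
    (Subgroup.relIndex_dvd_card _ _).trans (Subgroup.card_subgroup_dvd_card φ.F)
  have heodd : Odd e := by
    have h := hA.of_dvd_nat hu
    rw [he, Nat.odd_pow_iff two_ne_zero] at h
    exact h
  have hNd : N = Q ^ d := φ.card_V
  have hQp : IsPrimePow Q := by
    haveI := Fintype.ofFinite φ.K
    rw [hQ, Nat.card_eq_fintype_card]
    exact FiniteField.isPrimePow_card φ.K
  have hr : ∀ r, r.Prime → r ∣ e → r ∣ Q - 1 := fun r hr hd' =>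
    φ.prime_dvd_card_K hr (he ▸ hd'.trans (dvd_pow_self e two_ne_zero))
  have hsmall : a ≤ e ^ 4 ∧ (e = 3 → a = 1) ∧ (e = 5 → a ≤ 15) ∧ (e = 7 → a ≤ 63) ∧ (e = 9 → a ≤ 5) := by
    refine φ.relIndex_L_le IH hA he ?_
    have hlt : e ^ 2 < N := by
      rw [hNd]
      have h1 : 4 ≤ Q := by
        have hp := Nat.minFac_prime he1
        have h2 := Nat.le_of_dvd (by have := hQp.two_le; omega) (hr _ hp (Nat.minFac_dvd _))
        have h3 : Nat.minFac e ≠ 2 := fun h => absurd (heodd.of_dvd_nat (h ▸ Nat.minFac_dvd e)) (by decide)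
        have := hp.two_le
        omega
      calc e ^ 2 < (2 ^ e) ^ 2 := Nat.pow_lt_pow_left Nat.lt_two_pow_self two_ne_zero
        _ = 4 ^ e := by rw [show (4 : ℕ) = 2 ^ 2 from rfl, ← pow_mul, ← pow_mul, mul_comm]
        _ ≤ 4 ^ d := Nat.pow_le_pow_right (by norm_num) hed
        _ ≤ Q ^ d := Nat.pow_le_pow_left h1 _
    omega
  obtain ⟨har1, har2, hd3, hQ4⟩ := count_arith heodd he1 hed hQp hr hsmall
  rw [← hNd] at har1 har2
  -- the fixed-space bounds
  set m := Nat.findGreatest (fun k => k ^ 3 ≤ N) N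
  set M := Nat.findGreatest (fun k => k ^ 3 ≤ N ^ 2) N
  have hm : m ^ 3 ≤ N := Nat.findGreatest_spec (P := fun k => k ^ 3 ≤ N) (Nat.zero_le N) (by simp)
  have hM : M ^ 3 ≤ N ^ 2 := Nat.findGreatest_spec (P := fun k => k ^ 3 ≤ N ^ 2) (Nat.zero_le N) (by simp)
  have hfix : ∀ x : A, Nat.card (fixAdd V x) ≤ N := fun x => Nat.card_le_card_of_injective _ Subtype.val_injective
  have hlem : ∀ x : A, Nat.card (fixAdd V x) ^ 3 ≤ N → Nat.card (fixAdd V x) ^ 2 ≤ m ^ 2 := fun x h =>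
    Nat.pow_le_pow_left (Nat.le_findGreatest (hfix x) h) 2
  have hT1 := φ.two_mul_cover_le hA φ.F φ.C φ.F_le le_rfl (m ^ 2) fun x hx hx' => hlem x (φ.card_fix_F hA hx hx')
  have hT2 := φ.two_mul_cover_le hA φ.L φ.F le_rfl φ.C_le (M ^ 2) fun x hx hx' =>
    Nat.pow_le_pow_left (Nat.le_findGreatest (hfix x) (φ.card_fix_L hA hx hx')) 2
  have hT3 := two_mul_outside_le (V := V) hA φ.L (m ^ 2) fun x hx hxp => hlem x
    (φ.card_fix_outside hxp (pow_orderOf_eq_one x) hx fun h => absurd (h ▸ odd_orderOf hA x) (by decide))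
  set B1 := Nat.card {p : V × V // ∃ x ∈ φ.F, x ∉ φ.C ∧ (orderOf x).Prime ∧ x • p.1 = p.1 ∧ x • p.2 = p.2}
  set B2 := Nat.card {p : V × V // ∃ x ∈ φ.L, x ∉ φ.F ∧ (orderOf x).Prime ∧ x • p.1 = p.1 ∧ x • p.2 = p.2}
  set B3 := Nat.card {p : V × V // ∃ x, x ∉ φ.L ∧ (orderOf x).Prime ∧ x • p.1 = p.1 ∧ x • p.2 = p.2}
  have htot : N ^ 2 ≤ B1 + B2 + B3 := by
    let S1 : Set (V × V) := {p | ∃ x ∈ φ.F, x ∉ φ.C ∧ (orderOf x).Prime ∧ x • p.1 = p.1 ∧ x • p.2 = p.2}
    let S2 : Set (V × V) := {p | ∃ x ∈ φ.L, x ∉ φ.F ∧ (orderOf x).Prime ∧ x • p.1 = p.1 ∧ x • p.2 = p.2}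
    let S3 : Set (V × V) := {p | ∃ x, x ∉ φ.L ∧ (orderOf x).Prime ∧ x • p.1 = p.1 ∧ x • p.2 = p.2}
    have hall : (Set.univ : Set (V × V)) ⊆ S1 ∪ S2 ∪ S3 := by
      intro p _
      obtain ⟨x, hxC, hxp, hx⟩ := hcover p
      by_cases hxL : x ∈ φ.L
      · by_cases hxF : x ∈ φ.F
        · exact Or.inl (Or.inl ⟨x, hxF, hxC, hxp, hx⟩)
        · exact Or.inl (Or.inr ⟨x, hxL, hxF, hxp, hx⟩)
      · exact Or.inr ⟨x, hxL, hxp, hx⟩
    calc N ^ 2 = (Set.univ : Set (V × V)).ncard := by rw [Set.ncard_univ, Nat.card_prod, sq]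
      _ ≤ (S1 ∪ S2 ∪ S3).ncard := Set.ncard_le_ncard hall
      _ ≤ (S1 ∪ S2).ncard + S3.ncard := Set.ncard_union_le _ _
      _ ≤ S1.ncard + S2.ncard + S3.ncard := Nat.add_le_add_right (Set.ncard_union_le _ _) _
      _ = B1 + B2 + B3 := rfl
  have hB2 : a = 1 → B2 = 0 := fun h => by
    haveI : IsEmpty {p : V × V // ∃ x ∈ φ.L, x ∉ φ.F ∧ (orderOf x).Prime ∧ x • p.1 = p.1 ∧ x • p.2 = p.2} :=
      ⟨fun p => by obtain ⟨x, hx, hx', -⟩ := p.2; exact hx' (Subgroup.relIndex_eq_one.mp h hx)⟩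
    exact Nat.card_of_isEmpty
  rw [← Subgroup.relIndex_mul_relIndex φ.C φ.F φ.L φ.C_le φ.F_le, he] at hT2
  rw [he] at hT1
  set u := e ^ 2
  -- the order of the group
  have hcardA : Nat.card A ≤ (Q - 1) * u * a * Q := by
    rw [← φ.C.card_mul_index, ← Subgroup.relIndex_mul_index φ.C_le, ← Subgroup.relIndex_mul_index φ.F_le, he,
      ← mul_assoc, ← mul_assoc]
    have := φ.card_C_lt
    exact Nat.mul_le_mul (Nat.mul_le_mul_right _ (Nat.mul_le_mul_right _ (by omega))) φ.index_L_le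
  have ha0 : 1 ≤ a := Nat.one_le_iff_ne_zero.mpr Subgroup.index_ne_zero_of_finite
  have hu1 : 3 * u + (Q - 1) * u * a * Q ≤ Q ^ 2 * u * a := by
    obtain ⟨k, hk⟩ : ∃ k, Q = k + 4 := ⟨Q - 4, by omega⟩
    rw [hk]
    have : 3 * u ≤ (k + 4) * (u * a) := Nat.mul_le_mul (by omega) (Nat.le_mul_of_pos_right _ ha0)
    rw [show k + 4 - 1 = k + 3 by omega]
    nlinarith
  have hN0 : 0 < N := Nat.card_pos
  have hB13 : 2 * (B1 + B3) ≤ Q ^ 2 * u * a * m ^ 2 := by
    refine le_trans ?_ (Nat.mul_le_mul_right _ hu1)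
    have := hT3.trans (Nat.mul_le_mul_right _ hcardA)
    rw [mul_add, add_mul]
    omega
  -- the first inequality
  have hI : a ≤ 1 ∨ 27 * u ^ 3 * a ^ 3 < N ^ 2 := by
    by_cases h : a = 1
    · exact Or.inl h.le
    · exact Or.inr (har2 h)
  have hone : (Q ^ 2 * u * a * m ^ 2) < N ^ 2 := by
    refine (Nat.pow_lt_pow_iff_left (n := 3) (by norm_num)).mp ?_
    have h1 : Q ^ 6 * u ^ 3 * a ^ 3 < N ^ 4 := by
      rcases eq_or_ne a 1 with h | h
      · rw [h, one_pow, mul_one]; exact har1 h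
      · have hQN : Q ^ 6 ≤ N ^ 2 := by
          rw [hNd, ← pow_mul]
          exact Nat.pow_le_pow_right (by omega) (by omega)
        calc Q ^ 6 * u ^ 3 * a ^ 3 ≤ N ^ 2 * (27 * u ^ 3 * a ^ 3) := by
              rw [mul_assoc, mul_assoc (27 : ℕ)]
              exact Nat.mul_le_mul hQN (Nat.le_mul_of_pos_left _ (by norm_num))
          _ < N ^ 2 * N ^ 2 := Nat.mul_lt_mul_of_pos_left (har2 h) (pow_pos hN0 2)
          _ = N ^ 4 := by ring
    calc (Q ^ 2 * u * a * m ^ 2) ^ 3 = Q ^ 6 * u ^ 3 * a ^ 3 * (m ^ 3) ^ 2 := by ring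
      _ ≤ Q ^ 6 * u ^ 3 * a ^ 3 * N ^ 2 := Nat.mul_le_mul_left _ (Nat.pow_le_pow_left hm 2)
      _ < N ^ 4 * N ^ 2 := Nat.mul_lt_mul_of_pos_right h1 (pow_pos hN0 2)
      _ = (N ^ 2) ^ 3 := by ring
  rcases eq_or_ne a 1 with h | h
  · have := hB2 h
    omega
  have htwo : 3 * (u * a) * M ^ 2 < N ^ 2 := by
    refine (Nat.pow_lt_pow_iff_left (n := 3) (by norm_num)).mp ?_
    calc (3 * (u * a) * M ^ 2) ^ 3 = 27 * u ^ 3 * a ^ 3 * (M ^ 3) ^ 2 := by ring
      _ ≤ 27 * u ^ 3 * a ^ 3 * (N ^ 2) ^ 2 := Nat.mul_le_mul_left _ (Nat.pow_le_pow_left hM 2)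
      _ < N ^ 2 * (N ^ 2) ^ 2 := Nat.mul_lt_mul_of_pos_right (har2 h) (pow_pos (pow_pos hN0 2) 2)
      _ = (N ^ 2) ^ 3 := by ring
  change 2 * B2 ≤ 3 * (u * a) * M ^ 2 at hT2
  omega

end Frame

end CfsgLib.OddPair
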