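import Cfsg.Agent.OddPair.Split

/-!
A maximal abelian normal subgroup `C` and a maximal class-two normal subgroup `F` above it in a
primitive solvable linear group.
-/

set_option autoImplicit false
set_option linter.style.haveILetI false

open scoped commutatorElement

namespace CfsgLib.OddPair

/-- The data. -/
structure Frame (A V : Type) [Group A] [AddCommGroup V] [DistribMulAction A V] where
  C : Subgroup A
  F : Subgroup A
  C_normal : C.Normal
  F_normal : F.Normal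
  C_comm : ∀ x ∈ C, ∀ y ∈ C, x * y = y * x
  C_le : C ≤ F
  F_le : F ≤ Subgroup.centralizer (C : Set A)
  comm_mem : ∀ x ∈ F, ∀ y ∈ F, ⁅x, y⁆ ∈ C
  C_max : ∀ M : Subgroup A, M.Normal → (∀ x ∈ M, ∀ y ∈ M, x * y = y * x) → C ≤ M → M = C
  F_max : ∀ M : Subgroup A, M.Normal → M ≤ Subgroup.centralizer (C : Set A) →
    (∀ x ∈ M, ∀ y ∈ M, ⁅x, y⁆ ∈ C) → F ≤ M → M = F
  inv : ∀ r ∈ ringOf V C, r ≠ 0 → ∃ s ∈ ringOf V C, r * s = 1

variable {A V : Type} [Group A] [Finite A] [AddCommGroup V] [Finite V] [DistribMulAction A V]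

theorem exists_frame
    (hinv : ∀ M : Subgroup A, M.Normal → (∀ x ∈ M, ∀ y ∈ M, x * y = y * x) →
      ∀ r ∈ ringOf V M, r ≠ 0 → ∃ s ∈ ringOf V M, r * s = 1) : Nonempty (Frame A V) := by
  obtain ⟨C, ⟨hCn, hCc⟩, hCmax⟩ := Set.Finite.exists_maximalFor id
    {M : Subgroup A | M.Normal ∧ ∀ x ∈ M, ∀ y ∈ M, x * y = y * x} (Set.toFinite _) ⟨⊥, inferInstance, fun x hx y hy => by
      rw [Subgroup.mem_bot] at hx hy
      rw [hx, hy]⟩
  have hCL : C ≤ Subgroup.centralizer (C : Set A) := fun x hx =>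
    Subgroup.mem_centralizer_iff.mpr fun y hy => hCc y hy x hx
  obtain ⟨F, ⟨hFn, hCF, hFL, hFc⟩, hFmax⟩ := Set.Finite.exists_maximalFor id
    {M : Subgroup A | M.Normal ∧ C ≤ M ∧ M ≤ Subgroup.centralizer (C : Set A) ∧ ∀ x ∈ M, ∀ y ∈ M, ⁅x, y⁆ ∈ C}
    (Set.toFinite _) ⟨C, hCn, le_rfl, hCL, fun x hx y hy => by
      rw [commutatorElement_eq_one_iff_mul_comm.mpr (hCc x hx y hy)]; exact one_mem C⟩
  exact ⟨⟨C, F, hCn, hFn, hCc, hCF, hFL, hFc,
    fun M hM hMc hle => le_antisymm (hCmax ⟨hM, hMc⟩ hle) hle,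
    fun M hM hML hMc hle => le_antisymm (hFmax ⟨hM, le_trans hCF hle, hML, hMc⟩ hle) hle,
    hinv C hCn hCc⟩⟩

namespace Frame

variable (φ : Frame A V)

/-- The centralizer of `C`. -/
def L : Subgroup A := Subgroup.centralizer (φ.C : Set A)

theorem C_le_L : φ.C ≤ φ.L := φ.C_le.trans φ.F_le

instance : φ.C.Normal := φ.C_normal
instance : φ.F.Normal := φ.F_normal
instance : φ.L.Normal := Subgroup.normal_centralizer (H := φ.C)

theorem comm_C_L {c x : A} (hc : c ∈ φ.C) (hx : x ∈ φ.L) : c * x = x * c :=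
  Subgroup.mem_centralizer_iff.mp hx c hc

/-- The field of `C`. -/
abbrev K : Subring (AddMonoid.End V) := ringOf V φ.C

theorem K_comm (r s : φ.K) : r * s = s * r :=
  Subtype.ext (ringOf_mul_comm φ.C_comm r.2 s.2)

theorem K_isField [Nontrivial V] : IsField φ.K where
  exists_pair_ne := ⟨0, 1, fun h => by
    obtain ⟨x, hx⟩ := exists_ne (0 : V)
    exact hx (DFunLike.congr_fun (congrArg Subtype.val h) x).symm⟩
  mul_comm := φ.K_comm
  mul_inv_cancel := fun {r} hr => by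
    obtain ⟨s, hs, h⟩ := φ.inv r r.2 (fun e => hr (Subtype.ext e))
    exact ⟨⟨s, hs⟩, Subtype.ext h⟩

noncomputable instance [Nontrivial V] : Field φ.K := φ.K_isField.toField

instance : Finite (AddMonoid.End V) := Finite.of_injective (fun f => (f : V → V)) DFunLike.coe_injective

/-- `C` inside the units of its field. -/
noncomputable def unitHom [Nontrivial V] : φ.C →* φ.Kˣ :=
  MonoidHom.toHomUnits
    { toFun := fun c => (⟨endHom A V (c : A), endHom_mem_ringOf c.2⟩ : φ.K)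
      map_one' := Subtype.ext (map_one _)
      map_mul' := fun a b => Subtype.ext (map_mul _ _ _) }

theorem unitHom_apply [Nontrivial V] (c : φ.C) : (((φ.unitHom c : φ.Kˣ) : φ.K) : AddMonoid.End V) = endHom A V (c : A) :=
  rfl

theorem unitHom_injective [Nontrivial V] [FaithfulSMul A V] : Function.Injective φ.unitHom := fun a b h =>
  Subtype.ext (eq_of_smul_eq_smul (α := V) fun x => by
    rw [← endHom_apply, ← endHom_apply, ← φ.unitHom_apply, h, φ.unitHom_apply])

theorem card_C_lt [Nontrivial V] [FaithfulSMul A V] : Nat.card φ.C < Nat.card φ.K := by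
  have h1 := Nat.card_le_card_of_injective _ φ.unitHom_injective
  rw [Nat.card_units] at h1
  have h2 : 0 < Nat.card φ.K := Nat.card_pos
  omega

/-- A non-trivial element of `C` fixes only zero. -/
theorem eq_zero_of_fixed [Nontrivial V] [FaithfulSMul A V] {c : A} (hc : c ∈ φ.C) (hc1 : c ≠ 1) {x : V}
    (hx : c • x = x) : x = 0 := by
  have hne : endHom A V c - 1 ≠ 0 := fun h => hc1 (eq_of_smul_eq_smul (α := V) fun y => by
    rw [one_smul]
    exact DFunLike.congr_fun (sub_eq_zero.mp h) y)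
  obtain ⟨s, hs, h⟩ := φ.inv _ (sub_mem (endHom_mem_ringOf hc) (one_mem _)) hne
  rw [ringOf_mul_comm φ.C_comm (sub_mem (endHom_mem_ringOf hc) (one_mem _)) hs] at h
  have h2 := DFunLike.congr_fun h x
  have h3 : (endHom A V c - 1) x = 0 := sub_eq_zero.mpr hx
  change s ((endHom A V c - 1) x) = x at h2
  rw [h3, map_zero] at h2
  exact h2.symm

/-- Maps to the units of a field are few. -/
theorem card_hom_le {U : Type*} [Monoid U] [Finite U] {k : Type*} [Field k] :
    Nat.card (U →* kˣ) ≤ Nat.card U := by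
  classical
  letI := Fintype.ofFinite U
  haveI : Finite (U →* k) := (linearIndependent_monoidHom U k).finite
  letI := Fintype.ofFinite (U →* k)
  have h := (linearIndependent_monoidHom U k).fintype_card_le_finrank
  rw [Module.finrank_fintype_fun_eq_card, ← Nat.card_eq_fintype_card, ← Nat.card_eq_fintype_card] at h
  refine le_trans (Nat.card_le_card_of_injective (fun g : U →* kˣ => (Units.coeHom k).comp g) fun a b hab => ?_) h
  exact MonoidHom.ext fun x => Units.ext (DFunLike.congr_fun hab x)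

/-- The commutator pairing is symmetric. -/
theorem relIndex_centralizer_le [Nontrivial V] [FaithfulSMul A V] {M N : Subgroup A} (hM : M ≤ φ.L) (hN : N ≤ φ.L)
    (h : ∀ m ∈ M, ∀ n ∈ N, ⁅m, n⁆ ∈ φ.C) :
    (Subgroup.centralizer (N : Set A)).relIndex M ≤ (Subgroup.centralizer (M : Set A)).relIndex N := by
  classical
  have hmulr : ∀ m ∈ M, ∀ n ∈ N, ∀ n' ∈ N, ⁅m, n * n'⁆ = ⁅m, n⁆ * ⁅m, n'⁆ := by
    intro m hm n hn n' hn'
    have e : ⁅m, n * n'⁆ = ⁅m, n⁆ * (n * ⁅m, n'⁆ * n⁻¹) := by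
      simp only [commutatorElement_def]; group
    rw [e, ← φ.comm_C_L (h m hm n' hn') (hN hn), mul_inv_cancel_right]
  have hmull : ∀ m ∈ M, ∀ m' ∈ M, ∀ n ∈ N, ⁅m * m', n⁆ = ⁅m, n⁆ * ⁅m', n⁆ := by
    intro m hm m' hm' n hn
    have e : ⁅m * m', n⁆ = (m * ⁅m', n⁆ * m⁻¹) * ⁅m, n⁆ := by
      simp only [commutatorElement_def]; group
    rw [e, ← φ.comm_C_L (h m' hm' n hn) (hM hm), mul_inv_cancel_right,
      φ.C_comm _ (h m' hm' n hn) _ (h m hm n hn)]
  let cm : M → N → φ.C := fun m n => ⟨⁅(m : A), (n : A)⁆, h m m.2 n n.2⟩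
  let Ψ : M →* N →* φ.Kˣ :=
    { toFun := fun m =>
        { toFun := fun n => φ.unitHom (cm m n)
          map_one' := by
            rw [show cm m 1 = 1 from Subtype.ext (commutatorElement_one_right (m : A)), map_one]
          map_mul' := fun n n' => by
            rw [← map_mul]
            exact congrArg _ (Subtype.ext (hmulr m m.2 n n.2 n' n'.2)) }
      map_one' := MonoidHom.ext fun n => by
        show φ.unitHom (cm 1 n) = 1
        rw [show cm 1 n = 1 from Subtype.ext (commutatorElement_one_left (n : A)), map_one]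
      map_mul' := fun m m' => MonoidHom.ext fun n => by
        show φ.unitHom (cm (m * m') n) = φ.unitHom (cm m n) * φ.unitHom (cm m' n)
        rw [← map_mul]
        exact congrArg _ (Subtype.ext (hmull m m.2 m' m'.2 n n.2)) }
  have hΨ : ∀ (m : M) (n : N), Ψ m n = 1 ↔ (m : A) * n = n * m := fun m n => by
    rw [← commutatorElement_eq_one_iff_mul_comm]
    exact ⟨fun e => congrArg Subtype.val (φ.unitHom_injective (e.trans (map_one _).symm)),
      fun e => by
        show φ.unitHom (cm m n) = 1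
        rw [show cm m n = 1 from Subtype.ext e, map_one]⟩
  let R : Subgroup N := (Subgroup.centralizer (M : Set A)).subgroupOf N
  haveI hRn : R.Normal := by
    constructor
    intro n hn g
    rw [Subgroup.mem_subgroupOf, Subgroup.mem_centralizer_iff] at hn ⊢
    intro m hm
    have h1 : Ψ ⟨m, hm⟩ n = 1 := (hΨ ⟨m, hm⟩ n).mpr (hn m hm)
    exact (hΨ ⟨m, hm⟩ (g * n * g⁻¹)).mp (by rw [map_mul, map_mul, h1, mul_one, ← map_mul, mul_inv_cancel, map_one])
  have hker : ∀ m : M, R ≤ (Ψ m).ker := fun m n hn => by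
    rw [MonoidHom.mem_ker, hΨ]
    exact Subgroup.mem_centralizer_iff.mp (Subgroup.mem_subgroupOf.mp hn) m m.2
  let S : Subgroup M := (Subgroup.centralizer (N : Set A)).subgroupOf M
  refine le_trans (Nat.card_le_card_of_injective (fun c : M ⧸ S => QuotientGroup.lift R (Ψ c.out) (hker c.out))
    fun a b hab => ?_) card_hom_le
  rw [← QuotientGroup.out_eq' a, ← QuotientGroup.out_eq' b, QuotientGroup.eq, Subgroup.mem_subgroupOf,
    Subgroup.mem_centralizer_iff]
  intro n hn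
  refine ((hΨ (a.out⁻¹ * b.out) ⟨n, hn⟩).mp ?_).symm
  have h2 : Ψ a.out ⟨n, hn⟩ = Ψ b.out ⟨n, hn⟩ :=
    DFunLike.congr_fun hab (QuotientGroup.mk (⟨n, hn⟩ : N))
  rw [map_mul, MonoidHom.mul_apply, map_inv, MonoidHom.inv_apply, ← h2, inv_mul_cancel]

theorem relIndex_centralizer_eq [Nontrivial V] [FaithfulSMul A V] {M N : Subgroup A} (hM : M ≤ φ.L) (hN : N ≤ φ.L)
    (h : ∀ m ∈ M, ∀ n ∈ N, ⁅m, n⁆ ∈ φ.C) :
    (Subgroup.centralizer (N : Set A)).relIndex M = (Subgroup.centralizer (M : Set A)).relIndex N :=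
  le_antisymm (φ.relIndex_centralizer_le hM hN h) (φ.relIndex_centralizer_le hN hM fun n hn m hm => by
    rw [← commutatorElement_inv]; exact inv_mem (h m hm n hn))

/-- `Z(F) = C`. -/
theorem center_eq : φ.F ⊓ Subgroup.centralizer (φ.F : Set A) = φ.C := by
  refine φ.C_max _ inferInstance (fun x hx y hy => (Subgroup.mem_centralizer_iff.mp hy.2 x hx.1)) ?_
  exact le_inf φ.C_le fun c hc => Subgroup.mem_centralizer_iff.mpr fun f hf => (φ.comm_C_L hc (φ.F_le hf)).symm

/-- `F` contains its centraliser. -/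
theorem centralizer_F [hs : Group.IsSolvable A] : Subgroup.centralizer (φ.F : Set A) = φ.C := by
  classical
  set D := Subgroup.centralizer (φ.F : Set A) with hD
  have hCD : φ.C ≤ D := φ.center_eq.ge.trans inf_le_right
  by_contra hne
  have hq := QuotientGroup.mk'_surjective φ.C
  let q := QuotientGroup.mk' φ.C
  haveI : (D.map q).Normal := Subgroup.Normal.map inferInstance q hq
  have hDq : D.map q ≠ ⊥ := by
    rw [Ne, Subgroup.map_eq_bot_iff, QuotientGroup.ker_mk']
    exact fun h => hne (le_antisymm h hCD)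
  obtain ⟨N, ⟨hNn, hND, hN1⟩, hmin⟩ := Set.Finite.exists_minimalFor id
    {M : Subgroup (A ⧸ φ.C) | M.Normal ∧ M ≤ D.map q ∧ M ≠ ⊥} (Set.toFinite _) ⟨D.map q, inferInstance, le_rfl, hDq⟩
  haveI := hNn
  haveI : Group.IsSolvable (A ⧸ φ.C) := Group.isSolvable_of_surjective hq
  have hNc := commutative_of_minimal N hN1 fun M hM hle => by
    by_cases h : M = ⊥
    · exact Or.inl h
    · exact Or.inr (le_antisymm hle (hmin ⟨hM, hle.trans hND, h⟩ hle))
  let M := N.comap q
  have hMD : M ≤ D := by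
    intro x hx
    obtain ⟨d, hd, he⟩ := hND hx
    have h1 : d⁻¹ * x ∈ φ.C := QuotientGroup.eq.mp he
    have h2 := mul_mem hd (hCD h1)
    rwa [mul_inv_cancel_left] at h2
  have hMc : ∀ x ∈ M, ∀ y ∈ M, ⁅x, y⁆ ∈ φ.C := fun x hx y hy => by
    rw [← QuotientGroup.eq_one_iff]
    show q ⁅x, y⁆ = 1
    rw [map_commutatorElement, commutatorElement_eq_one_iff_mul_comm]
    exact hNc _ hx _ hy
  haveI : M.Normal := Subgroup.Normal.comap hNn q
  have hdl : D ≤ φ.L := fun x hx => Subgroup.mem_centralizer_iff.mpr fun c hc =>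
    Subgroup.mem_centralizer_iff.mp hx c (φ.C_le hc)
  have hFM : φ.F ⊔ M = φ.F := by
    refine φ.F_max _ inferInstance (sup_le φ.F_le (hMD.trans hdl)) ?_ le_sup_left
    intro x hx y hy
    obtain ⟨f, hf, m, hm, rfl⟩ := Subgroup.mem_sup_of_normal_left.mp hx
    obtain ⟨f', hf', m', hm', rfl⟩ := Subgroup.mem_sup_of_normal_left.mp hy
    have c1 : m * f' = f' * m := (Subgroup.mem_centralizer_iff.mp (hMD hm) f' hf').symm
    have c2 : f * m' = m' * f := Subgroup.mem_centralizer_iff.mp (hMD hm') f hf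
    have c3 : ⁅m, m'⁆ * f⁻¹ = f⁻¹ * ⁅m, m'⁆ := φ.comm_C_L (hMc m hm m' hm') (φ.F_le (inv_mem hf))
    have c5 : m⁻¹ * f'⁻¹ = f'⁻¹ * m⁻¹ := by rw [← mul_inv_rev, ← mul_inv_rev, c1]
    have c4 : m' * f⁻¹ = f⁻¹ * m' := by
      calc m' * f⁻¹ = f⁻¹ * (f * m') * f⁻¹ := by group
        _ = f⁻¹ * m' := by rw [c2]; group
    have e : ⁅f * m, f' * m'⁆ = f * f' * ⁅m, m'⁆ * (f⁻¹ * f'⁻¹) := by
      simp only [commutatorElement_def, mul_inv_rev]
      calc f * m * (f' * m') * (m⁻¹ * f⁻¹) * (m'⁻¹ * f'⁻¹)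
          = f * (m * f') * (m' * m⁻¹) * (f⁻¹ * m'⁻¹) * f'⁻¹ := by group
        _ = f * f' * m * (m' * m⁻¹) * (m'⁻¹ * f⁻¹) * f'⁻¹ := by
            rw [c1, show f⁻¹ * m'⁻¹ = m'⁻¹ * f⁻¹ by rw [← mul_inv_rev, ← mul_inv_rev, c2]]; group
        _ = _ := by group
    rw [e, ← mul_assoc, mul_assoc (f * f'), c3]
    have e2 : f * f' * (f⁻¹ * ⁅m, m'⁆) * f'⁻¹ = ⁅f, f'⁆ * (f' * ⁅m, m'⁆ * f'⁻¹) := by
      simp only [commutatorElement_def]; group
    rw [e2]
    exact mul_mem (φ.comm_mem f hf f' hf') (φ.C_normal.conj_mem _ (hMc m hm m' hm') f')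
  have hMC : M ≤ φ.C := by
    rw [← φ.center_eq]
    exact le_inf (le_sup_right.trans hFM.le) hMD
  apply hN1
  rw [← Subgroup.map_comap_eq_self_of_surjective hq N, Subgroup.map_eq_bot_iff, QuotientGroup.ker_mk']
  exact hMC

theorem C_relIndex_ne_zero (M : Subgroup A) : φ.C.relIndex M ≠ 0 :=
  Subgroup.index_ne_zero_of_finite

/-- Inside the centraliser of `C`, only `F` centralises `F / C`. -/
theorem mem_F_of_comm [Nontrivial V] [FaithfulSMul A V] [Group.IsSolvable A] {x : A} (hx : x ∈ φ.L)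
    (h : ∀ f ∈ φ.F, ⁅x, f⁆ ∈ φ.C) : x ∈ φ.F := by
  let q := QuotientGroup.mk' φ.C
  let M : Subgroup A := φ.L ⊓ (Subgroup.centralizer ((φ.F.map q : Subgroup _) : Set (A ⧸ φ.C))).comap q
  have hMc : ∀ m ∈ M, ∀ f ∈ φ.F, ⁅m, f⁆ ∈ φ.C := fun m hm f hf => by
    rw [← QuotientGroup.eq_one_iff]
    show q ⁅m, f⁆ = 1
    rw [map_commutatorElement, commutatorElement_eq_one_iff_mul_comm]
    exact (Subgroup.mem_centralizer_iff.mp hm.2 _ ⟨f, hf, rfl⟩).symm
  have hFM : φ.F ≤ M := fun f hf => ⟨φ.F_le hf, Subgroup.mem_centralizer_iff.mpr (by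
    rintro _ ⟨g, hg, rfl⟩
    refine commutatorElement_eq_one_iff_mul_comm.mp ?_
    rw [← map_commutatorElement]
    exact (QuotientGroup.eq_one_iff _).mpr (φ.comm_mem g hg f hf))⟩
  have hxM : x ∈ M := ⟨hx, Subgroup.mem_centralizer_iff.mpr (by
    rintro _ ⟨g, hg, rfl⟩
    refine (commutatorElement_eq_one_iff_mul_comm.mp ?_).symm
    rw [← map_commutatorElement]
    exact (QuotientGroup.eq_one_iff _).mpr (h g hg))⟩
  have h1 := φ.relIndex_centralizer_eq (M := M) (N := φ.F) inf_le_left φ.F_le hMc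
  rw [φ.centralizer_F] at h1
  have h2 : φ.C.relIndex M ≤ φ.C.relIndex φ.F := by
    rw [h1]
    refine Subgroup.relIndex_le_of_le_left ?_ (φ.C_relIndex_ne_zero _)
    exact fun c hc => Subgroup.mem_centralizer_iff.mpr fun m hm => (φ.comm_C_L hc hm.1).symm
  have h3 := Subgroup.relIndex_mul_relIndex _ _ _ φ.C_le hFM
  have h4 : φ.F.relIndex M = 1 := by
    rw [← h3] at h2
    have h5 := Nat.pos_of_ne_zero (φ.C_relIndex_ne_zero φ.F)
    have h6 : 0 < φ.F.relIndex M := Nat.pos_of_ne_zero Subgroup.index_ne_zero_of_finite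
    exact le_antisymm (Nat.le_of_mul_le_mul_left (by rwa [mul_one]) h5) h6
  exact Subgroup.relIndex_eq_one.mp h4 hxM

/-- `|F : C|` is a square. -/
theorem exists_sq [Nontrivial V] [FaithfulSMul A V] [Group.IsSolvable A] : ∃ e : ℕ, φ.C.relIndex φ.F = e ^ 2 := by
  obtain ⟨E, ⟨hCE, hEF, hEc⟩, hmax⟩ := Set.Finite.exists_maximalFor id
    {M : Subgroup A | φ.C ≤ M ∧ M ≤ φ.F ∧ ∀ x ∈ M, ∀ y ∈ M, x * y = y * x} (Set.toFinite _)
    ⟨φ.C, le_rfl, φ.C_le, φ.C_comm⟩
  refine ⟨φ.C.relIndex E, ?_⟩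
  have hEcent : ∀ f ∈ φ.F, (∀ x ∈ E, x * f = f * x) → f ∈ E := by
    intro f hf hfE
    have hcl : Subgroup.closure ((E : Set A) ∪ {f}) ≤ φ.F :=
      (Subgroup.closure_le _).mpr (Set.union_subset hEF (Set.singleton_subset_iff.mpr hf))
    have h := hmax (j := Subgroup.closure ((E : Set A) ∪ {f}))
      ⟨hCE.trans fun x hx => Subgroup.subset_closure (Or.inl hx), hcl, fun x hx y hy => by
        have hcomm := Subgroup.isMulCommutative_closure (k := (E : Set A) ∪ {f}) (by
          rintro a (ha | ha) b (hb | hb)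
          · exact hEc a ha b hb
          · rw [Set.mem_singleton_iff.mp hb]; exact hfE a ha
          · rw [Set.mem_singleton_iff.mp ha]; exact (hfE b hb).symm
          · rw [Set.mem_singleton_iff.mp ha, Set.mem_singleton_iff.mp hb])
        exact congrArg Subtype.val (hcomm.is_comm.comm (⟨x, hx⟩ : Subgroup.closure _) ⟨y, hy⟩)⟩
      (fun x hx => Subgroup.subset_closure (Or.inl hx))
    exact h (Subgroup.subset_closure (Or.inr rfl))
  have h1 := φ.relIndex_centralizer_eq (M := E) (N := φ.F) (hEF.trans φ.F_le) φ.F_le fun m hm n hn =>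
    φ.comm_mem m (hEF hm) n hn
  rw [φ.centralizer_F, ← Subgroup.inf_relIndex_right (Subgroup.centralizer (E : Set A)) φ.F] at h1
  have h2 : Subgroup.centralizer (E : Set A) ⊓ φ.F = E := le_antisymm
    (fun f hf => hEcent f hf.2 fun x hx => Subgroup.mem_centralizer_iff.mp hf.1 x hx)
    (le_inf (fun x hx => Subgroup.mem_centralizer_iff.mpr fun y hy => hEc y hy x hx) hEF)
  rw [h2] at h1
  rw [← Subgroup.relIndex_mul_relIndex _ _ _ hCE hEF, ← h1, sq]

/-- Every invariant section of `F / C` has an invariant complement. -/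
theorem exists_complement [Nontrivial V] [FaithfulSMul A V] [Group.IsSolvable A] (W : Subgroup A) [W.Normal]
    (hCW : φ.C ≤ W) (hWF : W ≤ φ.F) :
    ∃ W' : Subgroup A, W'.Normal ∧ φ.C ≤ W' ∧ W' ≤ φ.F ∧ W ⊓ W' = φ.C ∧ W ⊔ W' = φ.F := by
  refine ⟨φ.F ⊓ Subgroup.centralizer (W : Set A), inferInstance, le_inf φ.C_le fun c hc =>
    Subgroup.mem_centralizer_iff.mpr fun w hw => (φ.comm_C_L hc (φ.F_le (hWF hw))).symm, inf_le_left, ?_, ?_⟩
  · refine φ.C_max _ inferInstance (fun x hx y hy => (Subgroup.mem_centralizer_iff.mp hy.2.2 x hx.1)) ?_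
    exact le_inf hCW (le_inf φ.C_le fun c hc =>
      Subgroup.mem_centralizer_iff.mpr fun w hw => (φ.comm_C_L hc (φ.F_le (hWF hw))).symm)
  set W' := φ.F ⊓ Subgroup.centralizer (W : Set A) with hW'
  have hinf : W' ⊓ W = φ.C := by
    refine φ.C_max _ inferInstance (fun x hx y hy => (Subgroup.mem_centralizer_iff.mp hy.1.2 x hx.2)) ?_
    exact le_inf (le_inf φ.C_le fun c hc =>
      Subgroup.mem_centralizer_iff.mpr fun w hw => (φ.comm_C_L hc (φ.F_le (hWF hw))).symm) hCW
  have h1 := φ.relIndex_centralizer_eq (M := W) (N := φ.F) (hWF.trans φ.F_le) φ.F_le fun m hm n hn =>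
    φ.comm_mem m (hWF hm) n hn
  rw [φ.centralizer_F, ← Subgroup.inf_relIndex_right (Subgroup.centralizer (W : Set A)) φ.F,
    inf_comm (Subgroup.centralizer (W : Set A))] at h1
  have hle : W ⊔ W' ≤ φ.F := sup_le hWF inf_le_left
  refine le_antisymm hle (Subgroup.relIndex_eq_one.mp ?_)
  have h3 : W'.relIndex (W ⊔ W') = φ.C.relIndex W := by
    rw [Subgroup.relIndex_sup_right, ← Subgroup.inf_relIndex_right W' W, hinf]
  have h4 := Subgroup.relIndex_mul_relIndex W' (W ⊔ W') φ.F le_sup_right hle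
  rw [h3, ← h1] at h4
  exact mul_left_cancel₀ (φ.C_relIndex_ne_zero W) (h4.trans (mul_one _).symm)

end Frame

end CfsgLib.OddPair
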