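import Cfsg.Agent.OddPair.Basic

/-!
A solvable group of odd order acting on a finite set has a subset whose setwise stabiliser acts
trivially (Gluck), given pairs of vectors for smaller modules.
-/

set_option autoImplicit false
set_option linter.style.haveILetI false

open scoped Pointwise commutatorElement

namespace CfsgLib.OddPair

/-- A set whose setwise stabiliser acts trivially. -/
def HasRegularSubset (G Ω : Type*) [Group G] [MulAction G Ω] : Prop :=
  ∃ S : Set Ω, ∀ g : G, (∀ i : Ω, i ∈ S ↔ g • i ∈ S) → ∀ i : Ω, g • i = i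

/-- Permutations of four points of odd order preserve the pairing only trivially. -/
theorem perm_four : ∀ σ : Equiv.Perm (Fin 4), σ ^ 3 = 1 → σ ≠ 1 →
    (σ 0 = 0 ∧ σ 3 = 1) ∨ (σ 0 = 1 ∧ σ 3 = 0) ∨ (σ 0 = 2 ∧ σ 3 = 3) ∨ (σ 0 = 3 ∧ σ 3 = 2) ∨
    (σ 0 = 0 ∧ σ 3 = 2) ∨ (σ 0 = 2 ∧ σ 3 = 0) ∨ (σ 0 = 1 ∧ σ 3 = 3) ∨ (σ 0 = 3 ∧ σ 3 = 1) := by
  decide

theorem perm_four_one : ∀ σ : Equiv.Perm (Fin 4), σ 0 = 0 → σ 3 = 1 → (σ 1 = 2 ∧ σ 2 = 3) ∨ (σ 1 = 3 ∧ σ 2 = 2) := by
  decide

variable {G Ω : Type} [Group G] [Finite G] [MulAction G Ω] [Finite Ω]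

/-- The case of a regular abelian normal subgroup. -/
theorem hasRegularSubset_of_regular {n : ℕ} (hP : PairsBelow n) (hn : Nat.card Ω ≤ n)
    (hG : Odd (Nat.card G)) (hs : Group.IsSolvable G) [FaithfulSMul G Ω] (N : Subgroup G) [hN : N.Normal]
    (hmin : ∀ M : Subgroup G, M.Normal → M ≤ N → M = ⊥ ∨ M = N) (hab : ∀ x ∈ N, ∀ y ∈ N, x * y = y * x)
    (a : Ω) (hreg : ∀ i : Ω, ∃! x : N, (x : G) • a = i) : HasRegularSubset G Ω := by
  classical
  haveI : IsMulCommutative N := ⟨⟨fun x y => Subtype.ext (hab _ x.2 _ y.2)⟩⟩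
  letI : CommGroup N := { (inferInstance : Group N) with mul_comm := fun x y => Subtype.ext (hab _ x.2 _ y.2) }
  let φ : N → Ω := fun x => (x : G) • a
  have hφ : Function.Injective φ := fun x y h => (hreg (φ x)).unique rfl h.symm
  set G0 := MulAction.stabilizer G a with hG0
  letI : DistribMulAction G0 (Additive N) :=
    { smul := fun g x => Additive.ofMul (MulAut.conjNormal (g : G) x.toMul)
      one_smul := fun x => by
        show Additive.ofMul (MulAut.conjNormal (((1 : G0)) : G) x.toMul) = x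
        rw [OneMemClass.coe_one, map_one]; rfl
      mul_smul := fun g h x => by
        show Additive.ofMul (MulAut.conjNormal (((g * h : G0)) : G) x.toMul) = _
        rw [Subgroup.coe_mul, map_mul]; rfl
      smul_zero := fun g => map_one (MulAut.conjNormal (g : G) : MulAut N)
      smul_add := fun g x y => map_mul (MulAut.conjNormal (g : G) : MulAut N) x.toMul y.toMul }
  have hval : ∀ (g : G0) (x : N), (((g • Additive.ofMul x : Additive N).toMul : N) : G) = g * x * (g : G)⁻¹ :=
    fun g x => MulAut.conjNormal_apply _ x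
  have hequi : ∀ (g : G0) (x : N), (g : G) • φ x = φ (g • Additive.ofMul x : Additive N).toMul := by
    intro g x
    show (g : G) • (x : G) • a = _ • a
    rw [hval, mul_smul, mul_smul]
    congr 2
    rw [eq_inv_smul_iff]
    exact g.2
  have hdec : ∀ g : G, ∃ m : N, ∃ g0 : G0, g = m * g0 := by
    intro g
    obtain ⟨m, hm, -⟩ := hreg (g • a)
    exact ⟨m, ⟨(m : G)⁻¹ * g, by
      rw [hG0, MulAction.mem_stabilizer_iff, mul_smul, inv_smul_eq_iff]; exact hm.symm⟩, by simp⟩
  have hcr : IsCR G0 (Additive N) := by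
    intro U hU
    let M : Subgroup G :=
      { carrier := {x | ∃ h : x ∈ N, Additive.ofMul (⟨x, h⟩ : N) ∈ U}
        one_mem' := ⟨one_mem N, U.zero_mem⟩
        mul_mem' := fun ⟨hx, hx'⟩ ⟨hy, hy'⟩ => ⟨mul_mem hx hy, U.add_mem hx' hy'⟩
        inv_mem' := fun ⟨hx, hx'⟩ => ⟨inv_mem hx, U.neg_mem hx'⟩ }
    have hMn : M.Normal := by
      constructor
      rintro x ⟨hx, hx'⟩ g
      obtain ⟨m, g0, rfl⟩ := hdec g
      have h1 := hU g0 _ hx'
      refine ⟨hN.conj_mem x hx _, ?_⟩
      have e : (⟨(m : G) * g0 * x * ((m : G) * g0)⁻¹, hN.conj_mem x hx _⟩ : N) =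
          (g0 • Additive.ofMul (⟨x, hx⟩ : N) : Additive N).toMul := by
        apply Subtype.ext
        rw [hval]
        have h2 := hab _ m.2 _ (hN.conj_mem x hx (g0 : G))
        show (m : G) * g0 * x * ((m : G) * g0)⁻¹ = (g0 : G) * x * (g0 : G)⁻¹
        calc (m : G) * g0 * x * ((m : G) * g0)⁻¹ = (m : G) * (g0 * x * (g0 : G)⁻¹) * (m : G)⁻¹ := by group
          _ = _ := by rw [h2, mul_inv_cancel_right]
      rw [e]
      exact h1
    rcases hmin M hMn (fun x hx => hx.1) with h | h
    · refine ⟨⊤, fun _ _ _ => AddSubgroup.mem_top _, ?_, sup_top_eq U⟩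
      rw [inf_top_eq, eq_bot_iff]
      intro x hx
      have hxM : (x.toMul : G) ∈ M := ⟨x.toMul.2, hx⟩
      rw [h, Subgroup.mem_bot] at hxM
      exact AddSubgroup.mem_bot.mpr (show x.toMul = 1 from Subtype.ext hxM)
    · refine ⟨⊥, fun g w hw => ?_, inf_bot_eq U, ?_⟩
      · rw [AddSubgroup.mem_bot] at hw ⊢
        rw [hw, smul_zero]
      · rw [sup_bot_eq, eq_top_iff]
        intro x _
        have h3 : (x.toMul : G) ∈ M := by rw [h]; exact x.toMul.2
        exact h3.elim fun _ h4 => h4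
  have hcard : Nat.card (Additive N) ≤ n :=
    (Nat.card_le_card_of_injective (fun x : Additive N => φ x.toMul) fun x y h => hφ h).trans hn
  obtain ⟨v, w, hvw⟩ := hP (Additive N) hcard G0 (hG.of_dvd_nat (Subgroup.card_subgroup_dvd_card G0))
    (haveI := hs; (inferInstance : Group.IsSolvable G0)) hcr
  have htriv : ∀ g : G0, g • v = v → g • w = w → ∀ i : Ω, (g : G) • i = i := by
    intro g hv hw i
    obtain ⟨x, hx, -⟩ := hreg i
    rw [← hx, show (x : G) • a = φ x from rfl, hequi, hvw g hv hw]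
    rfl
  have hfix : ∀ (g : G0) (x : N), (g : G) • φ x = φ x → g • Additive.ofMul x = Additive.ofMul x := fun g x h => by
    rw [hequi] at h
    exact hφ h
  by_cases hsingle : ∃ u : Additive N, ∀ g : G0, g • u = u → g • v = v ∧ g • w = w
  · obtain ⟨u, hu⟩ := hsingle
    refine ⟨{a, φ u.toMul}, fun g hg => ?_⟩
    have h1 : g • a = a ∨ g • a = φ u.toMul := (hg a).mp (Or.inl rfl)
    have h2 : g • φ u.toMul = a ∨ g • φ u.toMul = φ u.toMul := (hg _).mp (Or.inr rfl)
    have ha : g • a = a := by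
      rcases h1 with h | h
      · exact h
      rcases h2 with h' | h'
      · exact smul_eq_of_swap hG (by rw [h]; exact h')
      · exact MulAction.injective g (h.trans h'.symm) ▸ h'
    have hu' : g • φ u.toMul = φ u.toMul := by
      rcases h2 with h' | h'
      · rw [MulAction.injective g (h'.trans ha.symm), ha]
      · exact h'
    have h3 := hu ⟨g, ha⟩ (hfix ⟨g, ha⟩ u.toMul hu')
    exact htriv ⟨g, ha⟩ h3.1 h3.2
  push Not at hsingle
  have hv1 : v.toMul ≠ 1 := fun h => by
    obtain ⟨g, hgw, hg⟩ := hsingle w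
    exact hg (by rw [show v = 0 from h, smul_zero]) hgw
  have hw1 : w.toMul ≠ 1 := fun h => by
    obtain ⟨g, hgv, hg⟩ := hsingle v
    exact hg hgv (by rw [show w = 0 from h, smul_zero])
  have hne : v.toMul ≠ w.toMul := fun h => by
    obtain ⟨g, hgv, hg⟩ := hsingle v
    exact hg hgv (by rw [← show v = w from h]; exact hgv)
  have hN2 : ∀ x : N, x * x = 1 → x = 1 := fun x hx => by
    have h2 : (x : G) ^ 2 ∈ (⊥ : Subgroup G) := by
      rw [Subgroup.mem_bot, pow_two]; exact congrArg Subtype.val hx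
    exact Subtype.ext (Subgroup.mem_bot.mp (mem_of_sq_mem hG ⊥ h2))
  set v' := v.toMul with hv'
  set w' := w.toMul with hw'
  let pt : Fin 4 → N := ![1, v', w', v' * w']
  have hinj : Function.Injective pt := by
    have h1 : v' * w' ≠ 1 := fun h => by
      obtain ⟨g, hgv, hg⟩ := hsingle v
      refine hg hgv ?_
      rw [show w = -v from eq_inv_of_mul_eq_one_right h, smul_neg, hgv]
    intro i j hij
    fin_cases i <;> fin_cases j <;>
      simp [pt, hv1, hw1, hne, Ne.symm hv1, Ne.symm hw1, Ne.symm hne, h1, Ne.symm h1] at hij ⊢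
  refine ⟨Set.range (φ ∘ pt), fun g hg => ?_⟩
  have hex : ∀ i, ∃ j, g • φ (pt i) = φ (pt j) := fun i => by
    obtain ⟨j, hj⟩ := (hg _).mp ⟨i, rfl⟩
    exact ⟨j, hj.symm⟩
  choose s hs' using hex
  have hsinj : Function.Injective s := fun i j h => hinj (hφ (MulAction.injective g (by simp only [hs', h])))
  let σ : Equiv.Perm (Fin 4) := Equiv.ofBijective s ⟨hsinj, (Finite.injective_iff_surjective).mp hsinj⟩
  have hpow : ∀ (k : ℕ) i, g ^ k • φ (pt i) = φ (pt ((σ ^ k) i)) := by
    intro k
    induction k with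
    | zero => intro i; rw [pow_zero, one_smul]; rfl
    | succ k ih => intro i; rw [pow_succ', mul_smul, ih, pow_succ', Equiv.Perm.mul_apply]; exact hs' _
  have hσ : σ = 1 := by
    obtain ⟨j, hj⟩ := odd_orderOf hG g
    have hσg : σ ^ orderOf g = 1 := Equiv.ext fun i => hinj (hφ (by
      rw [← hpow, pow_orderOf_eq_one, one_smul]; rfl))
    have h24 : orderOf σ ∣ 24 := by
      have h := orderOf_dvd_natCard σ
      rwa [Nat.card_eq_fintype_card, Fintype.card_perm, Fintype.card_fin] at h
    have hσo : orderOf σ ∣ orderOf g := orderOf_dvd_of_pow_eq_one hσg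
    have h3 : σ ^ 3 = 1 := by
      refine orderOf_dvd_iff_pow_eq_one.mp ?_
      have hodd : Odd (orderOf σ) := (odd_orderOf hG g).of_dvd_nat hσo
      have hcop : (orderOf σ).Coprime 8 := by
        rw [show (8 : ℕ) = 2 ^ 3 by norm_num]
        exact Nat.Coprime.pow_right 3 (Nat.coprime_two_right.mpr hodd)
      exact hcop.dvd_of_dvd_mul_left (by norm_num; exact h24)
    by_contra hne1
    obtain ⟨m, g0, hg0⟩ := hdec g
    have haff : ∀ x : N, g • φ x = φ (m * (g0 • Additive.ofMul x : Additive N).toMul) := fun x => by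
      rw [hg0, mul_smul, hequi]
      show (m : G) • (_ : G) • a = ((m : N) * _ : N) • a
      rw [Subgroup.smul_def, Subgroup.coe_mul, mul_smul]
    have hrel : ∀ i, pt (σ i) = m * (g0 • Additive.ofMul (pt i) : Additive N).toMul := fun i =>
      hφ (by rw [← haff]; exact (hs' i).symm)
    have hmul : pt (σ 0) * pt (σ 3) = pt (σ 1) * pt (σ 2) := by
      rw [hrel, hrel, hrel, hrel]
      have e : (g0 • Additive.ofMul (pt 3) : Additive N) = g0 • Additive.ofMul (pt 1) + g0 • Additive.ofMul (pt 2) := by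
        rw [← smul_add]; rfl
      rw [e, show Additive.ofMul (pt 0) = (0 : Additive N) from rfl, smul_zero, toMul_zero, mul_one, toMul_add]
      ac_rfl
    -- the product of all four points
    have htot : pt 0 * pt 1 * pt 2 * pt 3 = (v' * w') * (v' * w') := by
      simp [pt]
    have hperm : pt (σ 0) * pt (σ 1) * pt (σ 2) * pt (σ 3) = pt 0 * pt 1 * pt 2 * pt 3 := by
      have h := Equiv.prod_comp σ pt
      simpa [Fin.prod_univ_four] using h
    have hsq : pt (σ 0) * pt (σ 3) * (pt (σ 0) * pt (σ 3)) = (v' * w') * (v' * w') := by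
      conv_lhs => arg 2; rw [hmul]
      rw [← htot, ← hperm]
      ac_rfl
    have hsum : pt (σ 0) * pt (σ 3) = v' * w' := by
      refine mul_inv_eq_one.mp (hN2 _ ?_)
      rw [mul_mul_mul_comm, hsq, ← mul_inv, mul_inv_cancel]
    rcases perm_four σ h3 hne1 with ⟨a1, a2⟩ | ⟨a1, a2⟩ | ⟨a1, a2⟩ | ⟨a1, a2⟩ | ⟨a1, a2⟩ | ⟨a1, a2⟩ |
      ⟨a1, a2⟩ | ⟨a1, a2⟩ <;> rw [a1, a2] at hsum <;> simp [pt, hv1, hw1, hne] at hsum
  have hfix4 : ∀ i, g • φ (pt i) = φ (pt i) := fun i => by
    rw [hs', show s i = i from congrArg (fun τ : Equiv.Perm (Fin 4) => τ i) hσ]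
  have ha : g • a = a := by
    have h := hfix4 0
    simpa [φ, pt] using h
  exact htriv ⟨g, ha⟩ (hfix ⟨g, ha⟩ v' (hfix4 1)) (hfix ⟨g, ha⟩ w' (hfix4 2))

theorem commutative_of_minimal {G : Type*} [Group G] [hs : Group.IsSolvable G] (N : Subgroup G) [N.Normal]
    (hN : N ≠ ⊥) (hmin : ∀ M : Subgroup G, M.Normal → M ≤ N → M = ⊥ ∨ M = N) :
    ∀ x ∈ N, ∀ y ∈ N, x * y = y * x := by
  haveI : Nontrivial N := (Subgroup.nontrivial_iff_ne_bot N).mpr hN
  haveI : Group.IsSolvable N := inferInstance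
  rcases hmin ((commutator N).map N.subtype) inferInstance (Subgroup.map_subtype_le _) with h | h
  · intro x hx y hy
    have h1 : ((⁅(⟨x, hx⟩ : N), ⟨y, hy⟩⁆ : N) : G) ∈ (commutator N).map N.subtype :=
      ⟨_, Subgroup.commutator_mem_commutator (Subgroup.mem_top _) (Subgroup.mem_top _), rfl⟩
    rw [h, Subgroup.mem_bot] at h1
    exact commutatorElement_eq_one_iff_mul_comm.mp h1
  · exact absurd (Subgroup.map_injective N.subtype_injective (h.trans (by rw [← MonoidHom.range_eq_map, Subgroup.range_subtype])))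
      (Group.IsSolvable.commutator_lt_top_of_nontrivial (G := N)).ne

/-- A set whose setwise stabiliser acts trivially, for solvable groups of odd order. -/
theorem hasRegularSubset {n : ℕ} (hP : PairsBelow n) : ∀ (k : ℕ) (G Ω : Type) [Group G] [Finite G] [MulAction G Ω]
    [Finite Ω], Nat.card Ω ≤ k → Nat.card Ω ≤ n → Odd (Nat.card G) → Group.IsSolvable G → HasRegularSubset G Ω := by
  classical
  intro k
  induction k with
  | zero =>
    intro G Ω _ _ _ _ hk _ _ _
    haveI : IsEmpty Ω := by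
      rcases Nat.card_eq_zero.mp (Nat.le_zero.mp hk) with h | h
      · exact h
      · exact absurd h (not_infinite_iff_finite.mpr inferInstance)
    exact ⟨∅, fun g _ i => isEmptyElim i⟩
  | succ k ih =>
    intro G Ω _ _ _ _ hk hn hG hs
    by_cases htriv : ∀ (g : G) (i : Ω), g • i = i
    · exact ⟨∅, fun g _ => htriv g⟩
    push Not at htriv
    obtain ⟨g₁, a, hga⟩ := htriv
    by_cases htrans : ∀ i : Ω, i ∈ MulAction.orbit G a
    swap
    · -- two invariant parts
      let P1 : SubMulAction G Ω :=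
        { carrier := MulAction.orbit G a
          smul_mem' := fun g x hx => MulAction.mem_orbit_of_mem_orbit g hx }
      let P2 : SubMulAction G Ω :=
        { carrier := (MulAction.orbit G a)ᶜ
          smul_mem' := fun g x hx h => hx (by
            have := MulAction.mem_orbit_of_mem_orbit g⁻¹ h
            rwa [inv_smul_smul] at this) }
      push Not at htrans
      obtain ⟨b, hb⟩ := htrans
      have h1 : Nat.card P1 < Nat.card Ω :=
        Finite.card_subtype_lt (p := (· ∈ MulAction.orbit G a)) hb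
      have h2 : Nat.card P2 < Nat.card Ω :=
        Finite.card_subtype_lt (p := (· ∈ (MulAction.orbit G a)ᶜ)) (x := a) (fun h => h (MulAction.mem_orbit_self a))
      obtain ⟨S1, hS1⟩ := ih G P1 (by omega) (by omega) hG hs
      obtain ⟨S2, hS2⟩ := ih G P2 (by omega) (by omega) hG hs
      refine ⟨Subtype.val '' S1 ∪ Subtype.val '' S2, fun g hg i => ?_⟩
      by_cases hi : i ∈ MulAction.orbit G a
      · have key : ∀ j : P1, (j : Ω) ∈ Subtype.val '' S1 ∪ Subtype.val '' S2 ↔ j ∈ S1 := fun j => by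
          constructor
          · rintro (⟨j', hj', e⟩ | ⟨j', hj', e⟩)
            · rwa [← Subtype.ext (a1 := j') (a2 := j) e]
            · exact absurd (e ▸ j.2) j'.2
          · exact fun h => Or.inl ⟨j, h, rfl⟩
        exact congrArg Subtype.val (hS1 g (fun j => by rw [← key j, ← key (g • j)]; exact hg j) ⟨i, hi⟩)
      · have key : ∀ j : P2, (j : Ω) ∈ Subtype.val '' S1 ∪ Subtype.val '' S2 ↔ j ∈ S2 := fun j => by
          constructor
          · rintro (⟨j', hj', e⟩ | ⟨j', hj', e⟩)
            · exact absurd (e ▸ j'.2) j.2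
            · rwa [← Subtype.ext (a1 := j') (a2 := j) e]
          · exact fun h => Or.inr ⟨j, h, rfl⟩
        exact congrArg Subtype.val (hS2 g (fun j => by rw [← key j, ← key (g • j)]; exact hg j) ⟨i, hi⟩)
    haveI : MulAction.IsPretransitive G Ω := ⟨fun x y => by
      obtain ⟨g, rfl⟩ := htrans x
      obtain ⟨g', rfl⟩ := htrans y
      exact ⟨g' * g⁻¹, by simp [mul_smul]⟩⟩
    by_cases hblock : ∃ B : Set Ω, MulAction.IsBlock G B ∧ B.Nontrivial ∧ B ≠ Set.univ
    · -- blocks
      obtain ⟨B, hB, hBnt, hBu⟩ := hblock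
      have hBne := hBnt.nonempty
      have hmul := hB.ncard_block_mul_ncard_orbit_eq hBne
      have hB2 : 2 ≤ B.ncard := (Set.one_lt_ncard_iff_nontrivial_and_finite.mpr ⟨hBnt, B.toFinite⟩)
      let 𝔅 := MulAction.orbit G B
      have hΩ : 0 < Nat.card Ω := Nat.card_pos_iff.mpr ⟨⟨a⟩, inferInstance⟩
      have h𝔅 : Nat.card 𝔅 < Nat.card Ω := by
        rw [← hmul, ← Nat.card_coe_set_eq, ← Nat.card_coe_set_eq]
        show Nat.card (MulAction.orbit G B) < _
        have h0 : 0 < Nat.card (MulAction.orbit G B) := Nat.card_pos_iff.mpr ⟨⟨⟨B, MulAction.mem_orbit_self B⟩⟩, inferInstance⟩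
        have : 2 * Nat.card (MulAction.orbit G B) ≤ Nat.card B * Nat.card (MulAction.orbit G B) :=
          Nat.mul_le_mul_right _ (by rwa [Nat.card_coe_set_eq])
        omega
      have hBlt : Nat.card B < Nat.card Ω := by
        obtain ⟨x, hx⟩ := (Set.ne_univ_iff_exists_notMem B).mp hBu
        exact Finite.card_subtype_lt (p := (· ∈ B)) hx
      obtain ⟨T, hT⟩ := ih G 𝔅 (by omega) (by omega) hG hs
      set G₀ := MulAction.stabilizer G B with hG₀
      have hG₀B : ∀ (g : G₀) (x : Ω), x ∈ B → (g : G) • x ∈ B := fun g x hx => by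
        exact Set.ext_iff.mp (MulAction.mem_stabilizer_iff.mp g.2) _ |>.mp (Set.smul_mem_smul_set hx)
      letI : MulAction G₀ B :=
        { smul := fun g x => ⟨(g : G) • (x : Ω), hG₀B g x x.2⟩
          one_smul := fun x => Subtype.ext (one_smul G (x : Ω))
          mul_smul := fun g g' x => Subtype.ext (mul_smul (g : G) g' (x : Ω)) }
      obtain ⟨S₀, hS₀⟩ := ih G₀ B (by omega) (by omega) (hG.of_dvd_nat (Subgroup.card_subgroup_dvd_card G₀))
        (haveI := hs; (inferInstance : Group.IsSolvable G₀))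
      choose t ht₀ using fun s : 𝔅 => s.2
      have ht : ∀ s : 𝔅, t s • B = (s : Set Ω) := ht₀
      let lab : 𝔅 → Set B := fun s => if s ∈ T then S₀ else S₀ᶜ
      refine ⟨{i | ∃ (s : 𝔅) (x : B), x ∈ lab s ∧ t s • (x : Ω) = i}, fun g hg => ?_⟩
      have hpt : ∀ (s : 𝔅) (x : B), t s • (x : Ω) ∈ (s : Set Ω) := fun s x => by
        rw [← ht s]; exact Set.smul_mem_smul_set x.2
      have huniq : ∀ (s s' : 𝔅) (i : Ω), i ∈ (s : Set Ω) → i ∈ (s' : Set Ω) → s = s' := by
        intro s s' i hi hi'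
        refine Subtype.ext ?_
        rw [← ht s, ← ht s'] at *
        exact hB.smul_eq_smul_of_nonempty ⟨i, hi, hi'⟩
      have hmem : ∀ (s : 𝔅) (x : B), (t s • (x : Ω) ∈ {i | ∃ (s : 𝔅) (x : B), x ∈ lab s ∧ t s • (x : Ω) = i}) ↔ x ∈ lab s := by
        intro s x
        refine ⟨?_, fun h => ⟨s, x, h, rfl⟩⟩
        rintro ⟨s', x', hx', e⟩
        obtain rfl := huniq s' s _ (hpt s' x') (e ▸ hpt s x)
        rwa [← Subtype.ext (a1 := x') (a2 := x) (MulAction.injective _ e)]
      -- the induced map of a block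
      have hstep : ∀ s : 𝔅, ∃ h : G₀, (∀ x : B, g • t s • (x : Ω) = t (g • s) • ((h • x : B) : Ω)) := by
        intro s
        refine ⟨⟨(t (g • s))⁻¹ * g * t s, ?_⟩, fun x => ?_⟩
        · rw [hG₀, MulAction.mem_stabilizer_iff, mul_smul, mul_smul, inv_smul_eq_iff]
          show g • t s • B = _
          rw [ht, ht]
          rfl
        · show _ = t (g • s) • ((t (g • s))⁻¹ * g * t s) • (x : Ω)
          rw [mul_smul, mul_smul, smul_inv_smul]
      choose h hh using hstep
      have hlab : ∀ (s : 𝔅) (x : B), x ∈ lab s ↔ h s • x ∈ lab (g • s) := fun s x => by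
        rw [← hmem, hg, hh, hmem]
      have hTg : ∀ s : 𝔅, s ∈ T ↔ g • s ∈ T := by
        intro s
        by_contra hne
        have hflip : ∀ x : B, x ∈ S₀ ↔ h s • x ∉ S₀ := by
          intro x
          have h1 := hlab s x
          simp only [lab] at h1
          split_ifs at h1 with ha hb hb
          · exact absurd (iff_of_true ha hb) hne
          · simpa using h1
          · simp only [Set.mem_compl_iff] at h1; tauto
          · exact absurd (iff_of_false ha hb) hne
        have hsq := hS₀ ((h s) ^ 2) (fun x => by rw [pow_two, mul_smul]; have := hflip x; have := hflip (h s • x); tauto)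
        obtain ⟨x, hx⟩ := hBne
        have hfix : h s • (⟨x, hx⟩ : B) = ⟨x, hx⟩ :=
          smul_eq_of_swap (hG.of_dvd_nat (Subgroup.card_subgroup_dvd_card G₀)) (by
            rw [← mul_smul, ← pow_two]; exact hsq _)
        have := hflip ⟨x, hx⟩
        rw [hfix] at this
        tauto
      have hgs := hT g hTg
      intro i
      obtain ⟨s, x, rfl⟩ : ∃ (s : 𝔅) (x : B), t s • (x : Ω) = i := by
        obtain ⟨x₀, hx₀⟩ := hBne
        obtain ⟨u, rfl⟩ := MulAction.exists_smul_eq G x₀ i
        have hi : u • x₀ ∈ t ⟨u • B, MulAction.mem_orbit B u⟩ • B := by rw [ht]; exact Set.smul_mem_smul_set hx₀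
        obtain ⟨y, hy, e⟩ := hi
        exact ⟨_, ⟨y, hy⟩, e⟩
      have h1 : h s • x = x := hS₀ (h s) (fun y => by
        have h1 := hlab s y
        rw [hgs s] at h1
        simp only [lab] at h1
        split_ifs at h1
        · exact h1
        · simpa using not_congr h1) x
      rw [hh, hgs s, h1]
    -- primitive
    push Not at hblock
    haveI : MulAction.IsPreprimitive G Ω := ⟨fun {B} hB => by
      by_cases h : B.Nontrivial
      · exact Or.inr (hblock B hB h)
      · exact Or.inl (Set.not_nontrivial_iff.mp h)⟩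
    let f := MulAction.toPermHom G Ω
    set Q := f.range with hQ
    have hQodd : Odd (Nat.card Q) := hG.of_dvd_nat (Subgroup.card_range_dvd f)
    haveI hQs : Group.IsSolvable Q := haveI := hs; Group.isSolvable_of_surjective f.rangeRestrict_surjective
    haveI : MulAction.IsPreprimitive Q Ω := by
      refine MulAction.IsPreprimitive.of_surjective (φ := fun g : G => (⟨f g, g, rfl⟩ : Q))
        (f := (⟨id, fun _ _ => rfl⟩ : Ω →ₑ[fun g : G => (⟨f g, g, rfl⟩ : Q)] Ω)) Function.surjective_id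
    haveI : Nontrivial Q := ⟨⟨⟨f g₁, g₁, rfl⟩, 1, fun e => hga (DFunLike.congr_fun (congrArg Subtype.val e) a)⟩⟩
    obtain ⟨N, ⟨hN, hN1⟩, hmin'⟩ := Set.Finite.exists_minimalFor id {M : Subgroup Q | M.Normal ∧ M ≠ ⊥}
      (Set.toFinite _) ⟨⊤, inferInstance, top_ne_bot⟩
    haveI := hN
    have hmin : ∀ M : Subgroup Q, M.Normal → M ≤ N → M = ⊥ ∨ M = N := fun M hM hle => by
      by_cases h : M = ⊥
      · exact Or.inl h
      · exact Or.inr (le_antisymm hle (hmin' ⟨hM, h⟩ hle))
    have hab := commutative_of_minimal N hN1 hmin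
    haveI : MulAction.IsPretransitive N Ω := MulAction.IsQuasiPreprimitive.isPretransitive_of_normal (fun h => by
      refine hN1 ((Subgroup.eq_bot_iff_forall N).mpr fun x hx => Subtype.ext (Equiv.ext fun i => ?_))
      have : i ∈ MulAction.fixedPoints N Ω := h ▸ Set.mem_univ i
      exact this ⟨x, hx⟩)
    have hreg : ∀ i : Ω, ∃! x : N, (x : Q) • a = i := by
      intro i
      obtain ⟨x, hx⟩ := MulAction.exists_smul_eq N a i
      refine ⟨x, hx, fun y hy => Subtype.ext (Subtype.ext (Equiv.ext fun j => ?_))⟩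
      obtain ⟨z, rfl⟩ := MulAction.exists_smul_eq N a j
      show (y : Q) • (z : Q) • a = (x : Q) • (z : Q) • a
      rw [← mul_smul, ← mul_smul, hab _ y.2 _ z.2, hab _ x.2 _ z.2, mul_smul, mul_smul, hy]
      exact congrArg _ hx.symm
    obtain ⟨S, hS⟩ := hasRegularSubset_of_regular hP hn hQodd hQs N hmin hab a hreg
    exact ⟨S, fun g hg => hS ⟨f g, g, rfl⟩ hg⟩

end CfsgLib.OddPair
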