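import Cfsg.Agent.OddPair.Perm

/-!
Completely reducible groups of automorphisms of odd order of abelian groups of order 9, 25, 49 and 81.
-/

set_option autoImplicit false
set_option linter.style.haveILetI false

namespace CfsgLib.OddPair

variable {U : Type} [CommGroup U] [Finite U]

/-- Every invariant subgroup has an invariant complement. -/
def IsCRAut (A' : Subgroup (MulAut U)) : Prop :=
  ∀ W : Subgroup U, (∀ g ∈ A', ∀ x ∈ W, g x ∈ W) →
    ∃ W' : Subgroup U, (∀ g ∈ A', ∀ x ∈ W', g x ∈ W') ∧ W ⊓ W' = ⊥ ∧ W ⊔ W' = ⊤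

variable {A' : Subgroup (MulAut U)} {r : ℕ} [hr : Fact r.Prime]

/-- Such a group has no normal subgroup of the characteristic order. -/
theorem eq_bot_of_normal_pGroup (hcr : IsCRAut A') (hU : IsPGroup r U) (P : Subgroup A') [hPn : P.Normal]
    (hP : IsPGroup r P) : P = ⊥ := by
  let W : Subgroup U :=
    { carrier := {x | ∀ g ∈ P, (g : MulAut U) x = x}
      one_mem' := fun g _ => map_one _
      mul_mem' := fun {a b} ha hb g hg => by rw [map_mul, ha g hg, hb g hg]
      inv_mem' := fun {a} ha g hg => by rw [map_inv, ha g hg] }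
  obtain ⟨W', hW'inv, hinf, hsup⟩ := hcr W fun a ha x hx g hg => by
    have h := hx _ (hPn.conj_mem g hg (⟨a, ha⟩ : A')⁻¹)
    simp only [Subgroup.coe_mul, Subgroup.coe_inv, inv_inv, MulAut.mul_apply] at h
    have h2 := congrArg a h
    rwa [MulAut.apply_inv_self] at h2
  have hW' : W' = ⊥ := by
    by_contra hne
    haveI : Nontrivial W' := (Subgroup.nontrivial_iff_ne_bot W').mpr hne
    letI : MulAction P W' :=
      { smul := fun g x => ⟨((g : A') : MulAut U) x, hW'inv _ (g : A').2 x x.2⟩
        one_smul := fun x => Subtype.ext rfl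
        mul_smul := fun g h x => Subtype.ext rfl }
    have hdvd : r ∣ Nat.card W' := by
      obtain ⟨n, hn⟩ := IsPGroup.iff_card.mp (hU.to_subgroup W')
      rw [hn]
      refine dvd_pow_self r fun h => ?_
      rw [h, pow_zero] at hn
      have := Finite.one_lt_card (α := W')
      omega
    obtain ⟨x, hx, hx1⟩ := hP.exists_fixed_point_of_prime_dvd_card_of_fixed_point W' hdvd (a := 1)
      fun g => Subtype.ext (map_one ((g : A') : MulAut U))
    refine hx1 (Subtype.ext (Eq.symm (Subgroup.mem_bot.mp (hinf ▸ ?_ : (x : U) ∈ (⊥ : Subgroup U)))))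
    exact ⟨fun g hg => congrArg Subtype.val (hx ⟨g, hg⟩), x.2⟩
  rw [hW', sup_bot_eq] at hsup
  refine (Subgroup.eq_bot_iff_forall P).mpr fun g hg => Subtype.ext (MulEquiv.ext fun x => ?_)
  have hx : x ∈ W := hsup ▸ Subgroup.mem_top x
  exact hx g hg

/-- Completely reducible: the group is elementary abelian. -/
theorem pow_eq_one (hcr : IsCRAut A') (hU : IsPGroup r U) (x : U) : x ^ r = 1 := by
  let W : Subgroup U := (powMonoidHom r : U →* U).ker
  obtain ⟨W', -, hinf, hsup⟩ := hcr W fun g _ y hy => by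
    rw [MonoidHom.mem_ker, powMonoidHom_apply] at hy ⊢
    rw [← map_pow, hy, map_one]
  have hW' : W' = ⊥ := by
    by_contra hne
    haveI : Nontrivial W' := (Subgroup.nontrivial_iff_ne_bot W').mpr hne
    obtain ⟨n, hn⟩ := IsPGroup.iff_card.mp (hU.to_subgroup W')
    obtain ⟨y, hy⟩ := exists_prime_orderOf_dvd_card' r (G := W') (by
      rw [hn]
      refine dvd_pow_self r fun h => ?_
      rw [h, pow_zero] at hn
      have := Finite.one_lt_card (α := W')
      omega)
    have hyW : (y : U) ∈ W ⊓ W' := ⟨by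
      show (y : U) ^ r = 1
      rw [← Subgroup.coe_pow, ← hy, pow_orderOf_eq_one,
        OneMemClass.coe_one], y.2⟩
    rw [hinf, Subgroup.mem_bot] at hyW
    rw [show y = 1 from Subtype.ext hyW, orderOf_one] at hy
    exact hr.out.ne_one hy.symm
  rw [hW', sup_bot_eq] at hsup
  have hx : x ∈ W := hsup ▸ Subgroup.mem_top x
  rwa [MonoidHom.mem_ker, powMonoidHom_apply] at hx

/-- The order divides that of a general linear group. -/
theorem card_dvd_GL (hcr : IsCRAut A') (n : ℕ) (hU : Nat.card U = r ^ n) :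
    Nat.card A' ∣ ∏ i : Fin n, (r ^ n - r ^ (i : ℕ)) := by
  classical
  have hp : IsPGroup r U := IsPGroup.of_card hU
  letI : Module (ZMod r) (Additive U) := AddCommGroup.zmodModule (n := r) (G := Additive U) fun x =>
    show r • x = 0 from pow_eq_one hcr hp x.toMul
  haveI : Module.Finite (ZMod r) (Additive U) := Module.Finite.of_finite
  have hrk : Module.finrank (ZMod r) (Additive U) = n := by
    have h := Module.natCard_eq_pow_finrank (K := ZMod r) (V := Additive U)
    rw [Nat.card_zmod, show Nat.card (Additive U) = Nat.card U from Nat.card_congr Additive.toMul, hU] at h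
    exact (Nat.pow_right_injective hr.out.two_le h).symm
  let b := (Module.finBasisOfFinrankEq (ZMod r) (Additive U) hrk)
  let T : A' →* Module.End (ZMod r) (Additive U) :=
    { toFun := fun g => AddMonoidHom.toZModLinearMap r (MonoidHom.toAdditive ((g : MulAut U) : U →* U))
      map_one' := LinearMap.ext fun x => rfl
      map_mul' := fun g h => LinearMap.ext fun x => rfl }
  have hT : Function.Injective T := fun g h e => Subtype.ext (MulEquiv.ext fun x =>
    LinearMap.congr_fun e (Additive.ofMul x))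
  let M : A' →* Matrix.GeneralLinearGroup (Fin n) (ZMod r) :=
    (((LinearMap.toMatrixAlgEquiv b).toMonoidHom.comp T).toHomUnits)
  have hM : Function.Injective M := fun g h e => hT ((LinearMap.toMatrixAlgEquiv b).injective (congrArg Units.val e))
  have h := Subgroup.card_dvd_of_injective M hM
  rwa [Matrix.card_GL_field, ZMod.card] at h

theorem dvd_of_odd_dvd {a k m : ℕ} (ha : Odd a) (h : a ∣ 2 ^ k * m) : a ∣ m :=
  (Nat.Coprime.pow_right k (Nat.coprime_two_right.mpr ha)).dvd_of_dvd_mul_left h

/-- Order 9: trivial. -/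
theorem card_le_nine (hcr : IsCRAut A') (hodd : Odd (Nat.card A')) (hU : Nat.card U = 9) : Nat.card A' = 1 := by
  haveI : Fact (Nat.Prime 3) := ⟨Nat.prime_three⟩
  have h := card_dvd_GL (r := 3) hcr 2 (by rw [hU]; norm_num)
  have h3 : Nat.card A' ∣ 3 := dvd_of_odd_dvd hodd (k := 4) (by
    rw [Fin.prod_univ_two] at h
    exact h.trans (by norm_num))
  rcases Nat.prime_three.eq_one_or_self_of_dvd _ h3 with h1 | h1
  · exact h1
  have htop : IsPGroup 3 (⊤ : Subgroup A') := IsPGroup.of_card (n := 1) (by rw [Subgroup.card_top, h1, pow_one])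
  have h2 := eq_bot_of_normal_pGroup (r := 3) hcr (IsPGroup.of_card (n := 2) (by rw [hU]; norm_num)) ⊤ htop
  rw [← Subgroup.card_eq_one, Subgroup.card_top] at h2
  exact h2

/-- Order 25: at most 15. -/
theorem card_le_twentyfive (hcr : IsCRAut A') (hodd : Odd (Nat.card A')) (hU : Nat.card U = 25) :
    Nat.card A' ≤ 15 := by
  haveI : Fact (Nat.Prime 5) := ⟨Nat.prime_five⟩
  have h := card_dvd_GL (r := 5) hcr 2 (by rw [hU]; norm_num)
  rw [Fin.prod_univ_two] at h
  exact Nat.le_of_dvd (by norm_num) (dvd_of_odd_dvd hodd (k := 5) (h.trans (by norm_num)))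

/-- Order 49: at most 63. -/
theorem card_le_fortynine (hcr : IsCRAut A') (hodd : Odd (Nat.card A')) (hU : Nat.card U = 49) :
    Nat.card A' ≤ 63 := by
  haveI : Fact (Nat.Prime 7) := ⟨by norm_num⟩
  have h := card_dvd_GL (r := 7) hcr 2 (by rw [hU]; norm_num)
  rw [Fin.prod_univ_two] at h
  exact Nat.le_of_dvd (by norm_num) (dvd_of_odd_dvd hodd (k := 5) (h.trans (by norm_num)))

/-- Order 81: a normal subgroup preserving a family of hyperplanes has order at most 5. -/
theorem card_le_eightyone (hcr : IsCRAut A') (hodd : Odd (Nat.card A')) (hs : Group.IsSolvable A')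
    (hU : Nat.card U = 81) (B : Subgroup A') [B.Normal]
    (hperp : ∀ u : U, u ≠ 1 → ∃ W : Subgroup U, u ∈ W ∧ Nat.card W = 27 ∧
      ∀ g ∈ B, (g : MulAut U) u = u → ∀ x ∈ W, (g : MulAut U) x ∈ W) :
    Nat.card B ≤ 5 := by
  classical
  haveI : Fact (Nat.Prime 3) := ⟨Nat.prime_three⟩
  have hU3 : IsPGroup 3 U := IsPGroup.of_card (n := 4) (by rw [hU]; norm_num)
  have h := card_dvd_GL (r := 3) hcr 4 (by rw [hU]; norm_num)
  have hA : Nat.card A' ∣ 47385 := dvd_of_odd_dvd hodd (k := 9) (by
    rw [Fin.prod_univ_four] at h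
    exact h.trans (by norm_num))
  have hB : Nat.card B ∣ 729 * 5 := by
    have hB' : Nat.card B ∣ (729 * 5) * 13 := (Subgroup.card_subgroup_dvd_card B).trans hA
    refine Nat.Coprime.dvd_of_dvd_mul_right ?_ hB'
    haveI : Fact (Nat.Prime 13) := ⟨by norm_num⟩
    refine ((Fact.out : Nat.Prime 13).coprime_iff_not_dvd.mpr fun h13 => ?_).symm
    obtain ⟨g, hg⟩ := exists_prime_orderOf_dvd_card' 13 h13
    let Z := Subgroup.zpowers ((g : A') : MulAut U)
    have hZ : IsPGroup 13 Z := IsPGroup.of_card (n := 1) (by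
      rw [Nat.card_zpowers, Subgroup.orderOf_coe, Subgroup.orderOf_coe, hg, pow_one])
    let F : Subgroup U :=
      { carrier := {x | ((g : A') : MulAut U) x = x}
        one_mem' := map_one _
        mul_mem' := fun {a b} (ha : _ = a) (hb : _ = b) => show _ = a * b by rw [map_mul, ha, hb]
        inv_mem' := fun {a} (ha : _ = a) => show _ = a⁻¹ by rw [map_inv, ha] }
    have hfixed : ∀ W : Subgroup U, (∀ x ∈ W, ((g : A') : MulAut U) x ∈ W) →
        Nat.card W ≡ Nat.card (F ⊓ W : Subgroup U) [MOD 13] := by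
      intro W hW
      have hWz : ∀ a : Z, ∀ x ∈ W, (a : MulAut U) x ∈ W := by
        rintro ⟨a, ha⟩ x hx
        obtain ⟨m, rfl⟩ := (Submonoid.mem_powers_iff _ _).mp
          ((isOfFinOrder_of_finite _).mem_powers_iff_mem_zpowers.mpr ha)
        have hpow : ∀ (k : ℕ) (y : U), y ∈ W → (((g : A') : MulAut U) ^ k) y ∈ W := fun k => by
          induction k with
          | zero => exact fun y hy => hy
          | succ k ih => exact fun y hy => by rw [pow_succ, MulAut.mul_apply]; exact ih _ (hW y hy)
        exact hpow m x hx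
      letI : MulAction Z W :=
        { smul := fun a x => ⟨(a : MulAut U) x, hWz a x x.2⟩
          one_smul := fun x => Subtype.ext rfl
          mul_smul := fun a b x => Subtype.ext rfl }
      refine (hZ.card_modEq_card_fixedPoints W).trans (congrArg (· % 13) (Nat.card_congr ?_))
      exact
        { toFun := fun x => ⟨(x.1 : U), congrArg Subtype.val (x.2 ⟨_, Subgroup.mem_zpowers _⟩), x.1.2⟩
          invFun := fun x => ⟨⟨(x : U), x.2.2⟩, fun a => by
            refine Subtype.ext ?_
            obtain ⟨a, ha⟩ := a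
            have hst : a ∈ MulAction.stabilizer (MulAut U) (x : U) :=
              (Subgroup.zpowers_le.mpr (show ((g : A') : MulAut U) ∈ MulAction.stabilizer (MulAut U) (x : U) from x.2.1)) ha
            exact hst⟩
          left_inv := fun x => rfl
          right_inv := fun x => rfl }
    have hFU := hfixed ⊤ fun x _ => Subgroup.mem_top _
    rw [inf_top_eq, Subgroup.card_top, hU] at hFU
    obtain ⟨i, hi⟩ := IsPGroup.iff_card.mp (hU3.to_subgroup F)
    have hi4 : i ≤ 4 := by
      have h81 : 3 ^ i ∣ 3 ^ 4 := by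
        rw [← hi, show (3 : ℕ) ^ 4 = Nat.card U by rw [hU]; norm_num]
        exact Subgroup.card_subgroup_dvd_card F
      exact (Nat.pow_dvd_pow_iff_le_right (by norm_num)).mp h81
    have hcases : i = 1 ∨ i = 4 := by
      rw [hi] at hFU
      interval_cases i <;> first | omega | (norm_num [Nat.ModEq] at hFU)
    have hF1 : F ≠ ⊥ := fun e => by
      rw [e, Subgroup.card_bot] at hi
      rcases hcases with rfl | rfl <;> norm_num at hi
    obtain ⟨u, hu, hu1⟩ := (Subgroup.bot_or_exists_ne_one F).resolve_left hF1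
    obtain ⟨W, huW, hW27, hWinv⟩ := hperp u hu1
    have hFW := hfixed W (hWinv g g.2 hu)
    rw [hW27] at hFW
    obtain ⟨j, hj⟩ := IsPGroup.iff_card.mp (hU3.to_subgroup (F ⊓ W))
    have hj3 : j ≤ 3 := by
      refine (Nat.pow_dvd_pow_iff_le_right (w := show 1 < 3 by norm_num)).mp ?_
      rw [← hj, show (3 : ℕ) ^ 3 = Nat.card W by rw [hW27]; norm_num]
      exact Subgroup.card_dvd_of_le inf_le_right
    have hj' : j = 3 := by
      have hj0 : j ≠ 0 := fun e => hu1 (by
        rw [e, pow_zero, Subgroup.card_eq_one] at hj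
        exact Subgroup.mem_bot.mp (hj ▸ ⟨hu, huW⟩))
      rw [hj] at hFW
      interval_cases j <;> first | omega | (norm_num [Nat.ModEq] at hFW)
    have h4 : i = 4 := by
      refine hcases.resolve_left fun e => ?_
      have := Subgroup.card_le_of_le (inf_le_left : F ⊓ W ≤ F)
      rw [hj, hi, hj', e] at this
      norm_num at this
    have hFtop : F = ⊤ := Subgroup.eq_top_of_card_eq F (by rw [hi, h4, hU]; norm_num)
    have hg1 : g = 1 := Subtype.ext (Subtype.ext (MulEquiv.ext fun x => (hFtop.ge (Subgroup.mem_top x) : _)))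
    rw [hg1, orderOf_one] at hg
    norm_num at hg
  -- no normal 3-subgroups
  by_cases hBbot : B = ⊥
  · rw [hBbot, Subgroup.card_bot]; norm_num
  obtain ⟨N, ⟨hN, hNB, hN1⟩, hmin⟩ := Set.Finite.exists_minimalFor id
    {M : Subgroup A' | M.Normal ∧ M ≤ B ∧ M ≠ ⊥} (Set.toFinite _) ⟨B, inferInstance, le_rfl, hBbot⟩
  haveI := hN
  haveI := hs
  have hNc := commutative_of_minimal N hN1 fun M hM hle => by
    by_cases h : M = ⊥
    · exact Or.inl h
    · exact Or.inr (le_antisymm hle (hmin ⟨hM, hle.trans hNB, h⟩ hle))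
  haveI : IsMulCommutative N := ⟨⟨fun x y => Subtype.ext (hNc _ x.2 _ y.2)⟩⟩
  have hNdvd : Nat.card N ∣ 729 * 5 := (Subgroup.card_dvd_of_le hNB).trans hB
  obtain ⟨P⟩ : Nonempty (Sylow 3 N) := inferInstance
  haveI : (P : Subgroup N).Normal := Subgroup.normal_of_isMulCommutative _
  haveI : (P : Subgroup N).Characteristic := Sylow.characteristic_of_normal P inferInstance
  have hP1 : (P : Subgroup N) = ⊥ := by
    have h2 := eq_bot_of_normal_pGroup hcr hU3 ((P : Subgroup N).map N.subtype) (P.isPGroup'.map N.subtype)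
    rwa [Subgroup.map_eq_bot_iff_of_injective _ N.subtype_injective] at h2
  have h3 : ¬ 3 ∣ Nat.card N := fun h3 => P.ne_bot_of_dvd_card h3 hP1
  have hN5 : Nat.card N = 5 := by
    have h5 : Nat.card N ∣ 5 := by
      refine Nat.Coprime.dvd_of_dvd_mul_left ?_ hNdvd
      rw [show 729 = 3 ^ 6 by norm_num]
      exact Nat.Coprime.pow_right 6 ((Nat.prime_three.coprime_iff_not_dvd.mpr h3).symm)
    rcases Nat.prime_five.eq_one_or_self_of_dvd _ h5 with h1 | h1
    · exact absurd (Subgroup.card_eq_one.mp h1) hN1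
    · exact h1
  haveI : Fact (Nat.Prime 5) := ⟨Nat.prime_five⟩
  -- the centraliser in `B`
  let K : Subgroup A' := B ⊓ Subgroup.centralizer (N : Set A')
  have hNK : N ≤ K := le_inf hNB fun x hx => Subgroup.mem_centralizer_iff.mpr fun y hy => hNc y hy x hx
  obtain ⟨R⟩ : Nonempty (Sylow 3 K) := inferInstance
  have hKdvd : Nat.card K ∣ 729 * 5 := (Subgroup.card_dvd_of_le inf_le_left).trans hB
  haveI hRn : (R : Subgroup K).Normal := by
    have hsup : (R : Subgroup K) ⊔ N.subgroupOf K = ⊤ := by
      refine Subgroup.eq_top_of_card_eq _ (Nat.dvd_antisymm (Subgroup.card_subgroup_dvd_card _) ?_)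
      have h5 : 5 ∣ Nat.card ↥((R : Subgroup K) ⊔ N.subgroupOf K) := by
        rw [← hN5, ← Nat.card_congr (Subgroup.subgroupOfEquivOfLe hNK).toEquiv]
        exact Subgroup.card_dvd_of_le le_sup_right
      have h3' : Nat.card R ∣ Nat.card ↥((R : Subgroup K) ⊔ N.subgroupOf K) := Subgroup.card_dvd_of_le le_sup_left
      rw [R.card_eq_multiplicity] at h3'
      have hK0 : Nat.card K ≠ 0 := Nat.card_pos.ne'
      have hsplit := Nat.ordProj_mul_ordCompl_eq_self (Nat.card K) 3
      have hrest : Nat.card K / 3 ^ (Nat.card K).factorization 3 ∣ 5 := by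
        refine Nat.Coprime.dvd_of_dvd_mul_left ?_ ((Nat.ordCompl_dvd _ 3).trans hKdvd)
        rw [show 729 = 3 ^ 6 by norm_num]
        exact Nat.Coprime.pow_right 6 (Nat.coprime_ordCompl Nat.prime_three hK0).symm
      have hcop : (3 ^ (Nat.card K).factorization 3).Coprime 5 := Nat.Coprime.pow_left _ (by norm_num)
      conv_lhs => rw [← hsplit]
      exact (mul_dvd_mul_left _ hrest).trans (hcop.mul_dvd_of_dvd_of_dvd h3' h5)
    rw [← Subgroup.normalizer_eq_top_iff, eq_top_iff, ← hsup]
    refine sup_le Subgroup.le_normalizer fun n hn => ?_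
    rw [Subgroup.mem_normalizer_iff]
    intro r'
    have hc : n * r' * n⁻¹ = r' := Subtype.ext (by
      simp only [Subgroup.coe_mul, Subgroup.coe_inv]
      rw [Subgroup.mem_centralizer_iff.mp r'.2.2 (n : A') hn, mul_inv_cancel_right])
    rw [hc]
  haveI : (R : Subgroup K).Characteristic := Sylow.characteristic_of_normal R hRn
  have hR1 : (R : Subgroup K) = ⊥ := by
    haveI : ((R : Subgroup K).map K.subtype).Normal := ConjAct.normal_of_characteristic_of_normal
    have h2 := eq_bot_of_normal_pGroup hcr hU3 ((R : Subgroup K).map K.subtype) (R.isPGroup'.map K.subtype)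
    rwa [Subgroup.map_eq_bot_iff_of_injective _ K.subtype_injective] at h2
  have hKN : K = N := by
    have h3K : ¬ 3 ∣ Nat.card K := fun h3 => R.ne_bot_of_dvd_card h3 hR1
    have hK5 : Nat.card K ∣ 5 := by
      refine Nat.Coprime.dvd_of_dvd_mul_left ?_ hKdvd
      rw [show 729 = 3 ^ 6 by norm_num]
      exact Nat.Coprime.pow_right 6 ((Nat.prime_three.coprime_iff_not_dvd.mpr h3K).symm)
    exact (Subgroup.eq_of_le_of_card_ge hNK ((Nat.le_of_dvd (by norm_num) hK5).trans hN5.ge)).symm
  -- the automorphisms of a group of order five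
  let θ : B →* MulAut N := (MulAut.conjNormal : A' →* MulAut N).comp B.subtype
  have hθker : θ.ker ≤ N.subgroupOf B := by
    intro b hb
    rw [Subgroup.mem_subgroupOf, ← hKN]
    refine ⟨b.2, Subgroup.mem_centralizer_iff.mpr fun n hn => ?_⟩
    have h1 := congrArg Subtype.val (DFunLike.congr_fun (MonoidHom.mem_ker.mp hb) ⟨n, hn⟩)
    simp only [θ, MonoidHom.coe_comp, Function.comp_apply, Subgroup.coe_subtype, MulAut.conjNormal_apply,
      MulAut.one_apply] at h1
    exact (mul_inv_eq_iff_eq_mul.mp h1).symm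
  haveI : IsCyclic N := isCyclic_of_prime_card hN5
  have h4 : Nat.card θ.range ∣ 4 := by
    refine (Subgroup.card_subgroup_dvd_card _).trans ?_
    rw [Nat.card_congr (IsCyclic.mulAutMulEquiv N).toEquiv, hN5, Nat.card_eq_fintype_card, ZMod.card_units_eq_totient,
      Nat.totient_prime Nat.prime_five]
  have hθ1 : Nat.card θ.range = 1 := by
    have hoddB : Odd (Nat.card θ.range) :=
      (hodd.of_dvd_nat (Subgroup.card_subgroup_dvd_card B)).of_dvd_nat (Subgroup.card_range_dvd θ)
    exact Nat.dvd_one.mp (dvd_of_odd_dvd hoddB (k := 2) (by simpa using h4))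
  have htop : θ.ker = ⊤ := by
    rw [← Subgroup.index_eq_one, Subgroup.index_ker, hθ1]
  have hle : B ≤ N := fun b hb => hθker (htop ▸ Subgroup.mem_top (⟨b, hb⟩ : B))
  exact (Subgroup.card_le_of_le hle).trans hN5.le

end CfsgLib.OddPair
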