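import Cfsg.Agent.OddPair.Bounds
import Cfsg.Agent.OddPair.SmallAut

/-!
The automorphism group induced on `F / C` and the bound on `|L : F|`.
-/

set_option autoImplicit false
set_option linter.style.haveILetI false

open scoped commutatorElement

namespace CfsgLib.OddPair

/-- A completely reducible group of automorphisms of odd order has at most as many elements as pairs. -/
theorem card_aut_le {n : ℕ} (IH : PairsBelow n) {U : Type} [CommGroup U] [Finite U] (A' : Subgroup (MulAut U))
    (hcr : IsCRAut A') (hodd : Odd (Nat.card A')) (hs : Group.IsSolvable A') (hU : Nat.card U ≤ n) :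
    Nat.card A' ≤ Nat.card U ^ 2 := by
  letI : DistribMulAction A' (Additive U) :=
    { smul := fun g x => Additive.ofMul ((g : MulAut U) x.toMul)
      one_smul := fun x => rfl
      mul_smul := fun g h x => rfl
      smul_zero := fun g => map_one (g : MulAut U)
      smul_add := fun g x y => map_mul (g : MulAut U) x.toMul y.toMul }
  have hcr' : IsCR A' (Additive U) := by
    intro W hW
    obtain ⟨W', hW', hinf, hsup⟩ := hcr (AddSubgroup.toSubgroup' W) fun g hg x hx => hW ⟨g, hg⟩ (Additive.ofMul x) hx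
    refine ⟨Subgroup.toAddSubgroup W', fun g x hx => hW' g g.2 x.toMul hx, ?_, ?_⟩
    · rw [eq_bot_iff]
      rintro x ⟨hx, hx'⟩
      have h : x.toMul ∈ (⊥ : Subgroup U) := hinf ▸ ⟨hx, hx'⟩
      exact AddSubgroup.mem_bot.mpr (show x.toMul = 1 from Subgroup.mem_bot.mp h)
    · rw [eq_top_iff]
      intro x _
      have h : x.toMul ∈ AddSubgroup.toSubgroup' W ⊔ W' := hsup.symm ▸ Subgroup.mem_top _
      obtain ⟨y, hy, z, hz, hyz⟩ := Subgroup.mem_sup.mp h
      exact AddSubgroup.mem_sup.mpr ⟨Additive.ofMul y, hy, Additive.ofMul z, hz, congrArg Additive.ofMul hyz⟩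
  have hcardU : Nat.card (Additive U) = Nat.card U := Nat.card_congr Additive.toMul
  obtain ⟨v, w, hvw⟩ := IH (Additive U) (hcardU ▸ hU) A' hodd hs hcr'
  refine le_trans (Nat.card_le_card_of_injective (fun g : A' => (g • v, g • w)) fun g h e => ?_)
    (by rw [Nat.card_prod, hcardU, sq])
  have h1 : (h⁻¹ * g) • v = v := by rw [mul_smul, inv_smul_eq_iff]; exact congrArg Prod.fst e
  have h2 : (h⁻¹ * g) • w = w := by rw [mul_smul, inv_smul_eq_iff]; exact congrArg Prod.snd e
  have h3 := hvw _ h1 h2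
  have h4 : h⁻¹ * g = 1 := Subtype.ext (MulEquiv.ext fun x => h3 (Additive.ofMul x))
  exact (inv_mul_eq_one.mp h4).symm

namespace Frame

variable {A V : Type} [Group A] [Finite A] [AddCommGroup V] [Finite V] [Nontrivial V] [DistribMulAction A V]
variable [FaithfulSMul A V] (φ : Frame A V)

/-- The bound on `|L : F|`. -/
theorem relIndex_L_le [hs : Group.IsSolvable A] {n : ℕ} (IH : PairsBelow n) (hA : Odd (Nat.card A))
    {e : ℕ} (he : φ.C.relIndex φ.F = e ^ 2) (hn : e ^ 2 ≤ n) :
    φ.F.relIndex φ.L ≤ e ^ 4 ∧ (e = 3 → φ.F.relIndex φ.L = 1) ∧ (e = 5 → φ.F.relIndex φ.L ≤ 15) ∧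
      (e = 7 → φ.F.relIndex φ.L ≤ 63) ∧ (e = 9 → φ.F.relIndex φ.L ≤ 5) := by
  classical
  let q := QuotientGroup.mk' φ.C
  have hq := QuotientGroup.mk'_surjective φ.C
  let U := φ.F.map q
  haveI : U.Normal := Subgroup.Normal.map inferInstance q hq
  haveI : IsMulCommutative U := ⟨⟨fun x y => by
    obtain ⟨_, f, hf, rfl⟩ := x
    obtain ⟨_, g, hg, rfl⟩ := y
    refine Subtype.ext (commutatorElement_eq_one_iff_mul_comm.mp ?_)
    rw [← map_commutatorElement]
    exact (QuotientGroup.eq_one_iff _).mpr (φ.comm_mem f hf g hg)⟩⟩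
  letI : CommGroup U := { (inferInstance : Group U) with mul_comm := fun x y => IsMulCommutative.is_comm.comm x y }
  let θ : A →* MulAut U := (MulAut.conjNormal : A ⧸ φ.C →* MulAut U).comp q
  have hcardU : Nat.card U = e ^ 2 := by
    rw [← he, show U = φ.F.map q from rfl, ← Subgroup.relIndex_ker, QuotientGroup.ker_mk']
  have hθ : ∀ (a : A) (u : U), ((θ a u : U) : A ⧸ φ.C) = q a * u * (q a)⁻¹ := fun a u =>
    MulAut.conjNormal_apply _ u
  have hcr : IsCRAut θ.range := by
    intro W hW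
    let Wf : Subgroup A := (W.map U.subtype).comap q
    have hWn : (W.map U.subtype).Normal := by
      constructor
      rintro _ ⟨w, hw, rfl⟩ b
      obtain ⟨a, rfl⟩ := hq b
      exact ⟨θ a w, hW _ ⟨a, rfl⟩ w hw, hθ a w⟩
    haveI : Wf.Normal := Subgroup.Normal.comap hWn q
    have hCW : φ.C ≤ Wf := fun c hc => by
      show q c ∈ W.map U.subtype
      rw [show q c = 1 from (QuotientGroup.eq_one_iff c).mpr hc]
      exact one_mem _
    have hWF : Wf ≤ φ.F := by
      intro x hx
      obtain ⟨f, hf, e⟩ := Subgroup.map_subtype_le W hx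
      have h1 : f⁻¹ * x ∈ φ.C := QuotientGroup.eq.mp e
      have h2 := mul_mem hf (φ.C_le h1)
      rwa [mul_inv_cancel_left] at h2
    obtain ⟨W', hW'n, hCW', hW'F, hinf, hsup⟩ := φ.exists_complement Wf hCW hWF
    refine ⟨(W'.map q).subgroupOf U, fun g hg x hx => ?_, ?_, ?_⟩
    · obtain ⟨a, rfl⟩ := hg
      rw [Subgroup.mem_subgroupOf] at hx ⊢
      rw [hθ]
      exact (Subgroup.Normal.map hW'n q hq).conj_mem _ hx (q a)
    · rw [eq_bot_iff]
      rintro x ⟨hxW, hxW'⟩
      obtain ⟨y, hy, e⟩ := Subgroup.mem_subgroupOf.mp hxW'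
      have hyWf : y ∈ Wf := ⟨x, hxW, e.symm⟩
      have hyC : y ∈ φ.C := hinf ▸ ⟨hyWf, hy⟩
      exact Subgroup.mem_bot.mpr (Subtype.ext (e.symm.trans ((QuotientGroup.eq_one_iff y).mpr hyC)))
    · rw [eq_top_iff]
      rintro ⟨x, f, hf, rfl⟩ -
      rw [← hsup] at hf
      obtain ⟨y, hy, z, hz, rfl⟩ := Subgroup.mem_sup_of_normal_left.mp hf
      have hyU : q y ∈ U := ⟨y, hWF hy, rfl⟩
      have hzU : q z ∈ U := ⟨z, hW'F hz, rfl⟩
      have hyW : (⟨q y, hyU⟩ : U) ∈ W := by
        obtain ⟨w, hw, e⟩ := (show q y ∈ W.map U.subtype from hy)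
        rwa [← show w = ⟨q y, hyU⟩ from Subtype.ext e]
      have key := Subgroup.mul_mem_sup hyW (show (⟨q z, hzU⟩ : U) ∈ (W'.map q).subgroupOf U from ⟨z, hz, rfl⟩)
      convert key using 1
      exact Subtype.ext (map_mul q y z)
  have hodd : Odd (Nat.card θ.range) := hA.of_dvd_nat (Subgroup.card_range_dvd θ)
  haveI hsr : Group.IsSolvable θ.range := Group.isSolvable_of_surjective θ.rangeRestrict_surjective
  -- the image of `L`
  let B : Subgroup θ.range := φ.L.map θ.rangeRestrict
  haveI : B.Normal := Subgroup.Normal.map inferInstance _ θ.rangeRestrict_surjective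
  have hkerL : ∀ x ∈ φ.L, θ x = 1 ↔ x ∈ φ.F := by
    intro x hx
    constructor
    · intro h
      refine φ.mem_F_of_comm hx fun f hf => ?_
      have h1 := hθ x ⟨q f, f, hf, rfl⟩
      rw [h, MulAut.one_apply] at h1
      rw [← QuotientGroup.eq_one_iff]
      show q ⁅x, f⁆ = 1
      rw [map_commutatorElement, commutatorElement_def, ← h1, mul_inv_cancel]
    · intro hxF
      refine MulEquiv.ext fun u => Subtype.ext ?_
      rw [hθ, MulAut.one_apply]
      obtain ⟨f, hf, e⟩ := u.2
      rw [← e, mul_inv_eq_iff_eq_mul]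
      refine commutatorElement_eq_one_iff_mul_comm.mp ?_
      rw [← map_commutatorElement]
      exact (QuotientGroup.eq_one_iff _).mpr (φ.comm_mem x hxF f hf)
  have hB : Nat.card B = φ.F.relIndex φ.L := by
    have h1 : B = (θ.rangeRestrict.comp φ.L.subtype).range := by
      exact (congrArg (Subgroup.map θ.rangeRestrict) (Subgroup.range_subtype φ.L)).symm.trans
        (MonoidHom.range_comp θ.rangeRestrict φ.L.subtype).symm
    rw [h1, ← Subgroup.index_ker]
    refine congrArg Subgroup.index ?_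
    ext x
    rw [MonoidHom.mem_ker, Subgroup.mem_subgroupOf, ← hkerL x x.2]
    exact ⟨fun h => congrArg Subtype.val h, fun h => Subtype.ext h⟩
  have hle : φ.F.relIndex φ.L ≤ Nat.card θ.range := hB ▸ Subgroup.card_le_card_group B
  refine ⟨?_, fun h3 => ?_, fun h5 => ?_, fun h7 => ?_, fun h9 => ?_⟩
  · refine hle.trans ((card_aut_le IH θ.range hcr hodd hsr (hcardU ▸ hn)).trans ?_)
    rw [hcardU, ← pow_mul]
  · have h := card_le_nine hcr hodd (by rw [hcardU, h3]; norm_num)
    have : 0 < φ.F.relIndex φ.L := hB ▸ Nat.card_pos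
    omega
  · exact hle.trans (card_le_twentyfive hcr hodd (by rw [hcardU, h5]; norm_num))
  · exact hle.trans (card_le_fortynine hcr hodd (by rw [hcardU, h7]; norm_num))
  · haveI : Fact (Nat.Prime 3) := ⟨Nat.prime_three⟩
    have hU81 : Nat.card U = 81 := by rw [hcardU, h9]; norm_num
    refine hB ▸ card_le_eightyone hcr hodd hsr hU81 B fun u hu => ?_
    obtain ⟨f, hf, e'⟩ := u.2
    have hu3 : f ^ 3 ∈ φ.C := by
      have := pow_eq_one (r := 3) hcr (IsPGroup.of_card (n := 4) (by rw [hU81]; norm_num)) u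
      rw [← QuotientGroup.eq_one_iff]
      show q (f ^ 3) = 1
      rw [map_pow, e']
      exact congrArg Subtype.val this
    have hfC : f ∉ φ.C := fun h => hu (Subtype.ext (e'.symm.trans ((QuotientGroup.eq_one_iff f).mpr h)))
    let Z := Subgroup.zpowers f
    have hZF : Z ≤ φ.F := Subgroup.zpowers_le.mpr hf
    set W₀ := φ.F ⊓ Subgroup.centralizer (Z : Set A) with hW₀
    have hCW₀ : φ.C ≤ W₀ := le_inf φ.C_le fun c hc =>
      Subgroup.mem_centralizer_iff.mpr fun z hz => (φ.comm_C_L hc (φ.F_le (hZF hz))).symm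
    have h3idx : φ.C.relIndex Z = 3 := by
      rw [← QuotientGroup.ker_mk' φ.C, Subgroup.relIndex_ker, MonoidHom.map_zpowers, Nat.card_zpowers]
      refine orderOf_eq_prime ?_ fun h => hfC ((QuotientGroup.eq_one_iff f).mp h)
      rw [← map_pow]
      exact (QuotientGroup.eq_one_iff _).mpr hu3
    have h1 := φ.relIndex_centralizer_eq (M := Z) (N := φ.F) (hZF.trans φ.F_le) φ.F_le fun m hm k hk =>
      φ.comm_mem m (hZF hm) k hk
    rw [φ.centralizer_F, h3idx, ← Subgroup.inf_relIndex_right (Subgroup.centralizer (Z : Set A)) φ.F,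
      inf_comm (Subgroup.centralizer (Z : Set A))] at h1
    have h27 := Subgroup.relIndex_mul_relIndex φ.C W₀ φ.F hCW₀ inf_le_left
    rw [← h1, he, h9] at h27
    refine ⟨(W₀.map q).subgroupOf U, ⟨f, ⟨hf, Subgroup.mem_centralizer_iff.mpr fun z hz => ?_⟩, e'⟩, ?_, ?_⟩
    · obtain ⟨m, rfl⟩ := hz
      exact (Commute.zpow_self f m).eq
    · rw [Nat.card_congr (Subgroup.subgroupOfEquivOfLe (Subgroup.map_mono inf_le_left)).toEquiv,
        ← Subgroup.relIndex_ker, QuotientGroup.ker_mk']
      change φ.C.relIndex W₀ = 27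
      omega
    · rintro g ⟨x, hx, rfl⟩ hfix y hy
      obtain ⟨w, hw, e⟩ := Subgroup.mem_subgroupOf.mp hy
      rw [Subgroup.mem_subgroupOf]
      refine ⟨x * w * x⁻¹, ⟨φ.F_normal.conj_mem w hw.1 x, Subgroup.mem_centralizer_iff.mpr fun z hz => ?_⟩, ?_⟩
      · obtain ⟨m, rfl⟩ := hz
        refine (Commute.zpow_left (show Commute f (x * w * x⁻¹) from ?_) m).eq
        have h2 : q (x * f * x⁻¹) = q f := by
          have h3 := (hθ x u).symm
          rw [← e'] at h3
          rw [map_mul, map_mul, map_inv, h3]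
          exact (congrArg Subtype.val hfix).trans e'.symm
        have hc : f⁻¹ * (x * f * x⁻¹) ∈ φ.C := QuotientGroup.eq.mp h2.symm
        have hw' : x * w * x⁻¹ ∈ φ.L := φ.F_le (φ.F_normal.conj_mem w hw.1 x)
        have h4 : Commute (x * f * x⁻¹) (x * w * x⁻¹) :=
          Commute.map (Subgroup.mem_centralizer_iff.mp hw.2 f (Subgroup.mem_zpowers f) : Commute f w) (MulAut.conj x)
        have h5 : Commute ((f⁻¹ * (x * f * x⁻¹))⁻¹) (x * w * x⁻¹) :=
          (show Commute _ _ from φ.comm_C_L (inv_mem hc) hw')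
        have h6 := h4.mul_left h5
        rwa [show x * f * x⁻¹ * (f⁻¹ * (x * f * x⁻¹))⁻¹ = f by group] at h6
      · rw [map_mul, map_mul, map_inv, e]
        exact (hθ x y).symm

end Frame

end CfsgLib.OddPair
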